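import Cfsg.Agent.KFacts.J4.Irr
import Cfsg.Agent.KFacts.OutQ
import Cfsg.Agent.KFacts.LargeSheet

/-!
# The fourth Janko group: the automorphisms of `P = 2^{1+12}.3.M22` are induced by `C_K(z)`
-/

set_option autoImplicit false

namespace Cfsg.Agent.KFacts.J4.AutP

open Cfsg Cfsg.Agent.J4Type Cfsg.Agent.KFacts.J4.Base
open SporadicA.FieldFour VCoord CentCoords PreHexLin PreHexA
open Cfsg.Agent.SporadicA.MathieuRecog (mem_M22_iff card_M22 simple_M22)
open scoped commutatorElement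

variable {K : Type*} [Group K]

/-! ### The homomorphism onto `M22` -/

/-- the homomorphism of `MM` onto `M22` -/
noncomputable def pi (C : Cent K) : MM C →* Cfsg.Spor.M22 where
  toFun x := ⟨C.P ⟨x, MM_le C x.2⟩, (Aut22.mem_M22_iff_D22 _).2 ⟨PreHexA.P_mem _, x.2.2⟩⟩
  map_one' := Subtype.ext (map_one C.P)
  map_mul' x y := Subtype.ext (map_mul C.P ⟨x, MM_le C x.2⟩ ⟨y, MM_le C y.2⟩)

theorem pi_coe (C : Cent K) (x : MM C) : (pi C x : Equiv.Perm GolayPt) = C.P ⟨x, MM_le C x.2⟩ := rfl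

theorem pi_surjective (C : Cent K) : Function.Surjective (pi C) := by
  intro m
  obtain ⟨h1, h2⟩ := (Aut22.mem_M22_iff_D22 _).1 m.2
  obtain ⟨c, hc⟩ := exists_lift (H := C) h1
  have h3 : C.P c none = none := by rw [hc]; exact h2
  exact ⟨⟨c, c.2, h3⟩, Subtype.ext hc⟩

theorem pi_eq_one {C : Cent K} (x : MM C) : pi C x = 1 ↔ ∃ q ∈ C.Q, ∃ i : ℕ, (x : K) = q * C.ρ ^ i := by
  rw [← C.P_ker ⟨x, MM_le C x.2⟩]
  constructor
  · intro h; exact congrArg Subtype.val h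
  · intro h; exact Subtype.ext h

theorem rho_cube (C : Cent K) : C.ρ ^ 3 = 1 := by
  have := pow_orderOf_eq_one C.ρ
  rwa [C.ρ_order] at this

/-- a power of `ρ` in `Q` is trivial -/
theorem rho_pow_eq_one {C : Cent K} {i : ℕ} (h : C.ρ ^ i ∈ C.Q) : C.ρ ^ i = 1 := by
  have h1 : C.ρ * C.ρ ^ i = C.ρ ^ i * C.ρ := by rw [← pow_succ, ← pow_succ']
  rcases C.ρ_fix _ h h1 with h2 | h2
  · exact h2
  · exfalso
    have h3 : (C.ρ ^ i) ^ 3 = 1 := by rw [← pow_mul, mul_comm, pow_mul, rho_cube, one_pow]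
    rw [h2, pow_succ, pow_two, PreHexA.zz C, one_mul] at h3
    have := C.z_order
    rw [h3, orderOf_one] at this
    exact absurd this (by norm_num)

theorem Q_pow_four {C : Cent K} {q : K} (hq : q ∈ C.Q) : q ^ 4 = 1 := by
  have h7 : q ^ 4 = (q * q) * (q * q) := by
    rw [show (4 : ℕ) = 1 + 1 + 1 + 1 by norm_num, pow_add, pow_add, pow_add, pow_one]; group
  rw [h7]
  rcases C.Q_sq q hq with h8 | h8
  · rw [h8, one_mul]
  · rw [h8]; exact zz C

/-- `(q ρ^i)^n ∈ Q ρ^(i n)` -/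
theorem pow_eq {C : Cent K} {q : K} (hq : q ∈ C.Q) (i n : ℕ) :
    ∃ q' ∈ C.Q, (q * C.ρ ^ i) ^ n = q' * (C.ρ ^ i) ^ n := by
  induction n with
  | zero => exact ⟨1, C.Q.one_mem, by rw [pow_zero, pow_zero, one_mul]⟩
  | succ n ih =>
    obtain ⟨q', hq', h⟩ := ih
    have hm : (C.ρ ^ i) ^ n * C.z = C.z * (C.ρ ^ i) ^ n :=
      comm_z ((MM C).pow_mem ((MM C).pow_mem (rho_mem_MM C) i) n)
    refine ⟨q' * ((C.ρ ^ i) ^ n * q * ((C.ρ ^ i) ^ n)⁻¹), C.Q.mul_mem hq' (C.Q_conj _ hm q hq), ?_⟩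
    rw [pow_succ, h, pow_succ]
    group

/-- a 2-element of `N = Q⟨ρ⟩` lies in `Q` -/
theorem mem_Q_of_two {C : Cent K} {q : K} (hq : q ∈ C.Q) {i k : ℕ} (h : (q * C.ρ ^ i) ^ 2 ^ k = 1) :
    C.ρ ^ i = 1 := by
  obtain ⟨q', hq', h1⟩ := pow_eq hq i (2 ^ k)
  rw [h] at h1
  have h2 : (C.ρ ^ i) ^ 2 ^ k = q'⁻¹ := eq_inv_of_mul_eq_one_right h1.symm
  have h3 : (C.ρ ^ (i * 2 ^ k)) ∈ C.Q := by
    rw [pow_mul, h2]; exact C.Q.inv_mem hq'
  have h4 := rho_pow_eq_one h3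
  have h5 : 3 ∣ i * 2 ^ k := by
    have := orderOf_dvd_of_pow_eq_one h4
    rwa [C.ρ_order] at this
  have h6 : 3 ∣ i := (Nat.Coprime.dvd_of_dvd_mul_right (Nat.Coprime.pow_right k (by norm_num)) h5)
  obtain ⟨j, rfl⟩ := h6
  rw [pow_mul, rho_cube, one_pow]

/-- **`Q = O₂(MM)`.** -/
theorem rmax [Finite K] {C : Cent K} {B : Subgroup K} (hB : B ≤ MM C) (hB2 : IsPGroup 2 B)
    (hn : ∀ x ∈ MM C, ∀ b ∈ B, x * b * x⁻¹ ∈ B) : B ≤ C.Q := by
  have := simple_M22
  let B' : Subgroup (MM C) := B.subgroupOf (MM C)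
  have hB'n : B'.Normal := ⟨fun b hb g => hn g g.2 b hb⟩
  have h1 : (B'.map (pi C)).Normal := hB'n.map _ (pi_surjective C)
  have hB'2 : IsPGroup 2 B' := hB2.of_injective (Subgroup.subgroupOfEquivOfLe hB).toMonoidHom
    (Subgroup.subgroupOfEquivOfLe hB).injective
  rcases h1.eq_bot_or_eq_top with h2 | h2
  · intro b hb
    have h3 : pi C ⟨b, hB hb⟩ ∈ B'.map (pi C) := ⟨_, hb, rfl⟩
    rw [h2, Subgroup.mem_bot, pi_eq_one] at h3
    obtain ⟨q, hq, i, h4⟩ := h3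
    have h4' : b = q * C.ρ ^ i := h4
    obtain ⟨k, hk⟩ := hB2 ⟨b, hb⟩
    have h5 : b ^ 2 ^ k = 1 := congrArg Subtype.val hk
    rw [h4'] at h5
    rw [h4', mem_Q_of_two hq h5, mul_one]
    exact hq
  · exfalso
    have h3 : IsPGroup 2 Cfsg.Spor.M22 := by
      have h4 := hB'2.map (pi C)
      rw [h2] at h4
      exact h4.of_equiv Subgroup.topEquiv
    obtain ⟨n, hn⟩ := IsPGroup.iff_card.1 h3
    rw [card_M22] at hn
    have h5 : 11 ∣ 2 ^ n := by rw [← hn]; norm_num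
    have h6 := (Nat.Prime.dvd_of_dvd_pow (by norm_num : Nat.Prime 11) h5)
    exact absurd h6 (by norm_num)

/-- a homomorphism (as a function) of a perfect group with commuting values is trivial -/
theorem hom_trivial {G H : Type*} [Group G] [Group H] (hG : commutator G = ⊤) (a : G → H)
    (hmul : ∀ x y, a (x * y) = a x * a y) (hcomm : ∀ x y, a x * a y = a y * a x) (x : G) : a x = 1 := by
  let f : G →* H := MonoidHom.mk' a hmul
  have h1 : commutator G ≤ f.ker := by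
    rw [commutator_def, Subgroup.commutator_le]
    intro x _ y _
    rw [MonoidHom.mem_ker, map_commutatorElement, commutatorElement_eq_one_iff_mul_comm]
    exact hcomm x y
  rw [hG] at h1
  exact h1 (Subgroup.mem_top x)

theorem commutator_eq_top {G : Type*} [Group G] {H : Subgroup G} (h : ⁅H, H⁆ = H) : commutator H = ⊤ := by
  apply (Subgroup.map_injective H.subtype_injective)
  rw [commutator_def, Subgroup.map_commutator, ← MonoidHom.range_eq_map, Subgroup.range_subtype, h]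

/-! ### The automorphisms of `MM` -/

/-- the conjugation by an element of `C_K(z)` -/
noncomputable def cj (C : Cent K) {d : K} (hd : d * C.z = C.z * d) : MulAut (MM C) where
  toFun x := ⟨d * x * d⁻¹, conj_mem hd x.2⟩
  invFun x := ⟨d⁻¹ * x * d, by
    have h1 : d⁻¹ * C.z = C.z * d⁻¹ := by
      rw [inv_mul_eq_iff_eq_mul, ← mul_assoc, hd, mul_inv_cancel_right]
    have := Base.conj_mem h1 x.2
    rwa [inv_inv] at this⟩
  left_inv x := Subtype.ext (by show d⁻¹ * (d * x * d⁻¹) * d = x; group)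
  right_inv x := Subtype.ext (by show d * (d⁻¹ * x * d) * d⁻¹ = x; group)
  map_mul' x y := Subtype.ext (by show d * (x * y) * d⁻¹ = (d * x * d⁻¹) * (d * y * d⁻¹); group)

theorem cj_coe {C : Cent K} {d : K} (hd : d * C.z = C.z * d) (x : MM C) :
    (cj C hd x : K) = d * x * d⁻¹ := rfl

theorem cj_inv_mul_coe {C : Cent K} {d : K} (hd : d * C.z = C.z * d) (β : MulAut (MM C)) (x : MM C) :
    (((cj C hd)⁻¹ * β) x : K) = d⁻¹ * β x * d := rfl

theorem map_Q [Finite K] {C : Cent K} (β : MulAut (MM C)) {q : MM C} (hq : (q : K) ∈ C.Q) :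
    (β q : K) ∈ C.Q := by
  have h1 : ((C.Q.subgroupOf (MM C)).map β.toMonoidHom).map (MM C).subtype ≤ C.Q := by
    apply rmax
    · rintro _ ⟨x, -, rfl⟩
      exact x.2
    · have h2 : IsPGroup 2 (C.Q.subgroupOf (MM C)) := by
        have h3 : IsPGroup 2 C.Q := IsPGroup.of_card C.Q_card
        exact h3.of_injective (Subgroup.subgroupOfEquivOfLe (Q_le_MM C)).toMonoidHom
          (Subgroup.subgroupOfEquivOfLe (Q_le_MM C)).injective
      exact (h2.map _).map _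
    · rintro x hx _ ⟨_, ⟨y, hy, rfl⟩, rfl⟩
      obtain ⟨w, hw⟩ := β.surjective ⟨x, hx⟩
      refine ⟨β (w * y * w⁻¹), ⟨w * y * w⁻¹, ?_, rfl⟩, ?_⟩
      · show (w : K) * y * (w : K)⁻¹ ∈ C.Q
        exact C.Q_conj w (comm_z w.2) y hy
      · show ((β (w * y * w⁻¹) : MM C) : K) = x * (β y : K) * x⁻¹
        rw [map_mul, map_mul, map_inv, hw]
        rfl
  exact h1 ⟨β q, ⟨q, hq, rfl⟩, rfl⟩

theorem ker_iff {C : Cent K} (x : MM C) :
    pi C x = 1 ↔ ∀ y : MM C, (x : K) * y * (x : K)⁻¹ * (y : K)⁻¹ ∈ C.Q := by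
  constructor
  · rw [pi_eq_one]
    rintro ⟨q, hq, i, h⟩ y
    obtain ⟨q₁, hq₁, h1⟩ := C.P_inner ⟨y, MM_le C y.2⟩ y.2.2
    have h1' : (y : K) * C.ρ * (y : K)⁻¹ = q₁ * C.ρ ^ 1 := by rw [pow_one]; exact h1
    obtain ⟨q', hq', h2⟩ := pow_eq hq₁ 1 i
    rw [← h1', conj_pow, pow_one] at h2
    have h3 : (y : K) * q * (y : K)⁻¹ ∈ C.Q := C.Q_conj y (comm_z y.2) q hq
    have h4 : (x : K) * y * (x : K)⁻¹ * (y : K)⁻¹ = q * (((y : K) * q * (y : K)⁻¹) * q')⁻¹ := by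
      have h5 : (y : K) * (q * C.ρ ^ i) * (y : K)⁻¹ = ((y : K) * q * (y : K)⁻¹) * (q' * C.ρ ^ i) := by
        rw [← h2]; group
      calc (x : K) * y * (x : K)⁻¹ * (y : K)⁻¹ = x * ((y : K) * x * (y : K)⁻¹)⁻¹ := by group
        _ = q * C.ρ ^ i * (((y : K) * q * (y : K)⁻¹) * (q' * C.ρ ^ i))⁻¹ := by rw [h, h5]
        _ = q * (((y : K) * q * (y : K)⁻¹) * q')⁻¹ := by group
    rw [h4]
    exact C.Q.mul_mem hq (C.Q.inv_mem (C.Q.mul_mem h3 hq'))
  · intro h
    apply Subtype.ext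
    show (pi C x : Equiv.Perm GolayPt) = 1
    apply Aut22.eq_one_of_centralizes (PreHexA.P_mem _)
    intro m
    obtain ⟨y, rfl⟩ := pi_surjective C m
    have h1 : pi C (x * y * x⁻¹ * y⁻¹) = 1 := (pi_eq_one _).2 ⟨_, h y, 0, by rw [pow_zero, mul_one]; rfl⟩
    rw [map_mul, map_mul, map_mul, map_inv, map_inv, mul_inv_eq_one] at h1
    exact congrArg Subtype.val h1

theorem ker_map [Finite K] {C : Cent K} (β : MulAut (MM C)) {x : MM C} (hx : pi C x = 1) :
    pi C (β x) = 1 := by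
  rw [ker_iff] at hx ⊢
  intro y
  obtain ⟨w, rfl⟩ := β.surjective y
  have h1 := map_Q β (q := x * w * x⁻¹ * w⁻¹) (hx w)
  rw [map_mul, map_mul, map_mul, map_inv, map_inv] at h1
  exact h1

theorem exists_alpha [Finite K] {C : Cent K} (β : MulAut (MM C)) :
    ∃ α : Cfsg.Spor.M22 ≃* Cfsg.Spor.M22, ∀ x, α (pi C x) = pi C (β x) := by
  have hs := pi_surjective C
  let f : MM C →* Cfsg.Spor.M22 := (pi C).comp β.toMonoidHom
  have hker : (pi C).ker ≤ f.ker := fun x hx => ker_map β hx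
  let a : Cfsg.Spor.M22 →* Cfsg.Spor.M22 := (pi C).liftOfSurjective hs ⟨f, hker⟩
  have ha : ∀ x, a (pi C x) = pi C (β x) := fun x =>
    MonoidHom.liftOfRightInverse_comp_apply (pi C) (Function.surjInv hs) (Function.rightInverse_surjInv hs)
      ⟨f, hker⟩ x
  have hsurj : Function.Surjective a := by
    intro m
    obtain ⟨y, rfl⟩ := hs m
    obtain ⟨x, rfl⟩ := β.surjective y
    exact ⟨pi C x, ha x⟩
  exact ⟨MulEquiv.ofBijective a ⟨Finite.injective_iff_surjective.2 hsurj, hsurj⟩, ha⟩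

/-- step 1: trivial on `M22` -/
theorem step1 [Finite K] {C : Cent K} (β : MulAut (MM C)) :
    ∃ (d : K) (hd : d * C.z = C.z * d), ∀ x, pi C (((cj C hd)⁻¹ * β) x) = pi C x := by
  obtain ⟨α, hα⟩ := exists_alpha β
  obtain ⟨g, hg, hgα⟩ := Aut22.exists_conj α
  obtain ⟨d, hd⟩ := exists_lift (H := C) (p := g) hg
  refine ⟨d, Subgroup.mem_centralizer_singleton_iff.1 d.2, fun x => Subtype.ext ?_⟩
  have h1 : (α (pi C x) : Equiv.Perm GolayPt) = g * (pi C x : Equiv.Perm GolayPt) * g⁻¹ := hgα _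
  rw [hα, pi_coe, pi_coe] at h1
  have h2 : (pi C (((cj C (Subgroup.mem_centralizer_singleton_iff.1 d.2))⁻¹ * β) x) :
      Equiv.Perm GolayPt) = C.P (d⁻¹ * ⟨β x, MM_le C (β x).2⟩ * d) := rfl
  rw [h2, map_mul, map_mul, map_inv, hd, h1, pi_coe]
  group

/-- step 2: trivial modulo `Q` -/
theorem step2 {C : Cent K} (hp : ⁅MM C, MM C⁆ = MM C) (β : MulAut (MM C))
    (hβ : ∀ x, pi C (β x) = pi C x) (x : MM C) : (x : K)⁻¹ * β x ∈ C.Q := by
  have hn : (C.Q.subgroupOf (MM C)).Normal := ⟨fun q hq g => C.Q_conj g (comm_z g.2) q hq⟩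
  let Q' := C.Q.subgroupOf (MM C)
  let a : MM C → MM C ⧸ Q' := fun x => ((x⁻¹ * β x : MM C) : MM C ⧸ Q')
  have hcen : ∀ x y : MM C, a x * (y : MM C ⧸ Q') = (y : MM C ⧸ Q') * a x := by
    intro x y
    have h1 : pi C (x⁻¹ * β x) = 1 := by rw [map_mul, map_inv, hβ, inv_mul_cancel]
    have h2 := (ker_iff _).1 h1 y
    have h3 : (((x⁻¹ * β x) * y * (x⁻¹ * β x)⁻¹ * y⁻¹ : MM C) : MM C ⧸ Q') = 1 :=
      (QuotientGroup.eq_one_iff _).2 h2
    rw [QuotientGroup.mk_mul, QuotientGroup.mk_inv, mul_inv_eq_one, QuotientGroup.mk_mul,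
      QuotientGroup.mk_inv, mul_inv_eq_iff_eq_mul, QuotientGroup.mk_mul] at h3
    exact h3
  have h1 : a x = 1 := by
    apply hom_trivial (commutator_eq_top hp) a
    · intro x y
      have h2 := hcen x y
      show (((x * y)⁻¹ * β (x * y) : MM C) : MM C ⧸ Q') = a x * a y
      have h3 : ((x * y)⁻¹ * β (x * y) : MM C) = y⁻¹ * (x⁻¹ * β x) * (y * (y⁻¹ * β y)) := by
        rw [map_mul]; group
      rw [h3, QuotientGroup.mk_mul, QuotientGroup.mk_mul, QuotientGroup.mk_mul]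
      show (y⁻¹ : MM C) * a x * ((y : MM C ⧸ Q') * a y) = a x * a y
      rw [QuotientGroup.mk_inv]
      calc (y : MM C ⧸ Q')⁻¹ * a x * ((y : MM C ⧸ Q') * a y) =
          (y : MM C ⧸ Q')⁻¹ * (a x * (y : MM C ⧸ Q')) * a y := by group
        _ = a x * a y := by rw [h2]; group
    · intro x y
      exact hcen x _
  have h2 : x⁻¹ * β x ∈ Q' := (QuotientGroup.eq_one_iff _).1 h1
  exact h2

open Classical in
/-- step 3: trivial modulo `Q` and on `Q/⟨z⟩`, up to a power of `ρ` -/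
theorem step3 [Finite K] {C : Cent K} (D : CentCoords C) (β : MulAut (MM C))
    (hβ : ∀ x : MM C, (x : K)⁻¹ * β x ∈ C.Q) :
    ∃ i : ℕ, ∀ q : MM C, (q : K) ∈ C.Q → D.co (β q) = D.co (C.ρ ^ i * q * (C.ρ ^ i)⁻¹) := by
  let b : K → K := fun x => if h : x ∈ MM C then β ⟨x, h⟩ else x
  have hb : ∀ x (h : x ∈ MM C), b x = β ⟨x, h⟩ := fun x h => dif_pos h
  have hbQ : ∀ q ∈ C.Q, b q ∈ C.Q := fun q hq => by
    rw [hb q (Q_le_MM C hq)]
    exact map_Q β hq
  have hzz : b C.z = C.z := by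
    have hc : ∀ y : MM C, (b C.z) * y = y * b C.z := by
      intro y
      obtain ⟨w, rfl⟩ := β.surjective y
      rw [hb _ (z_mem_MM C)]
      have h1 : (⟨C.z, z_mem_MM C⟩ : MM C) * w = w * ⟨C.z, z_mem_MM C⟩ :=
        Subtype.ext (comm_z w.2).symm
      have h2 := congrArg β h1
      rw [map_mul, map_mul] at h2
      exact congrArg Subtype.val h2
    rcases C.Q_cent (b C.z) (fun q hq => hc ⟨q, Q_le_MM C hq⟩) with h | h
    · exfalso
      rw [hb _ (z_mem_MM C)] at h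
      have h1 : β ⟨C.z, z_mem_MM C⟩ = 1 := Subtype.ext h
      have h2 : (⟨C.z, z_mem_MM C⟩ : MM C) = 1 := β.injective (by rw [h1, map_one])
      have h3 : C.z = 1 := congrArg Subtype.val h2
      have := C.z_order
      rw [h3, orderOf_one] at this
      exact absurd this (by norm_num)
    · exact h
  suffices h : ∃ i : ℕ, ∀ q ∈ C.Q, D.co (b q) = D.co (C.ρ ^ i * q * (C.ρ ^ i)⁻¹) by
    obtain ⟨i, hi⟩ := h
    refine ⟨i, fun q hq => ?_⟩
    have := hi q hq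
    rwa [hb _ q.2] at this
  refine Irr.exists_rho_pow D (β := b) hbQ ?_ ?_ ?_ ?_
  · intro x hx y hy
    have h1 : b (x * y) = b x * b y := by
      rw [hb _ (Q_le_MM C hx), hb _ (Q_le_MM C hy), hb _ ((MM C).mul_mem (Q_le_MM C hx) (Q_le_MM C hy)),
        ← Subgroup.coe_mul, ← map_mul]
      rfl
    rw [h1, D.co_mul _ (hbQ x hx) _ (hbQ y hy)]
  · rw [hzz, D.co_z]
  · -- not everything is mapped to `⟨z⟩`
    by_contra hcon
    push Not at hcon
    have h1 : ∀ q ∈ C.Q, q = 1 ∨ q = C.z := by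
      intro q hq
      have h2 := map_Q β.symm (q := ⟨q, Q_le_MM C hq⟩) hq
      have h3 := hcon _ h2
      have h4 : b (β.symm ⟨q, Q_le_MM C hq⟩ : MM C) = q := by
        rw [hb _ (β.symm ⟨q, Q_le_MM C hq⟩).2]
        exact congrArg Subtype.val (β.apply_symm_apply _)
      rw [h4] at h3
      exact D.co_ker q hq h3
    have h3 : (C.Q : Set K) ⊆ {1, C.z} := fun a ha => h1 a ha
    have h4 := Set.ncard_le_ncard h3 (Set.toFinite _)
    have h5 : (C.Q : Set K).ncard = 2 ^ 13 := C.Q_card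
    have h6 := Set.ncard_insert_le (1 : K) {C.z}
    rw [Set.ncard_singleton] at h6
    omega
  · intro c hc q hq
    have hcq : c * q * c⁻¹ ∈ C.Q := C.Q_conj c (comm_z hc) q hq
    have h1 : b (c * q * c⁻¹) = b c * b q * (b c)⁻¹ := by
      rw [hb _ (Q_le_MM C hcq), hb _ (Q_le_MM C hq), hb _ hc, ← Subgroup.coe_mul, ← Subgroup.coe_inv,
        ← Subgroup.coe_mul, ← map_inv, ← map_mul, ← map_mul]
      rfl
    obtain ⟨x, hx, h2⟩ : ∃ x ∈ C.Q, b c = c * x := by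
      refine ⟨c⁻¹ * b c, ?_, by group⟩
      rw [hb _ hc]
      exact hβ ⟨c, hc⟩
    have h3 : b c * b q * (b c)⁻¹ = c * (x * b q * x⁻¹) * c⁻¹ := by rw [h2]; group
    have hbq := hbQ q hq
    have h4 : x * b q * x⁻¹ ∈ C.Q := C.Q.mul_mem (C.Q.mul_mem hx hbq) (C.Q.inv_mem hx)
    rw [h1, h3]
    apply co_conj_congr D ⟨c, MM_le C hc⟩ h4 hbq
    rw [D.co_mul _ (C.Q.mul_mem hx hbq) _ (C.Q.inv_mem hx), D.co_mul _ hx _ hbq, co_inv D hx,
      add_right_comm, add_self6, zero_add]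

/-- in a perfect group with `z` central no subgroup of `C(z)` has index 2 -/
theorem index_ne_two {G : Type*} [Group G] (hG : commutator G = ⊤) {z : G} (hz : ∀ g : G, g * z = z * g)
    (N : Subgroup (Subgroup.centralizer ({z} : Set G))) : N.index ≠ 2 := by
  have htop : Subgroup.centralizer ({z} : Set G) = ⊤ := by
    rw [eq_top_iff]
    intro c _
    exact Subgroup.mem_centralizer_singleton_iff.2 (hz c)
  revert N
  rw [htop]
  intro N
  have e : (⊤ : Subgroup G) ≃* G := Subgroup.topEquiv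
  have h1 : commutator (⊤ : Subgroup G) = ⊤ := by
    have h2 : (commutator (⊤ : Subgroup G)).map e.toMonoidHom = ⊤ := by
      rw [commutator_def, Subgroup.map_commutator]
      have h3 : (⊤ : Subgroup (⊤ : Subgroup G)).map e.toMonoidHom = ⊤ := by
        rw [← MonoidHom.range_eq_map]
        exact MonoidHom.range_eq_top.2 e.surjective
      rw [h3, ← commutator_def, hG]
    rw [eq_top_iff]
    intro c _
    have h3 : e c ∈ (commutator (⊤ : Subgroup G)).map e.toMonoidHom := by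
      rw [h2]; trivial
    obtain ⟨d, hd, hde⟩ := h3
    rwa [← e.injective hde]
  exact LargeSheet.Data.index_ne_two h1 N

/-- **Every automorphism of `MM` is the conjugation by an element of `C_K(z)`.** -/
theorem exists_conj [Finite K] {C : Cent K} (D : CentCoords C) (hp : ⁅MM C, MM C⁆ = MM C)
    (β : MulAut (MM C)) : ∃ c : K, c * C.z = C.z * c ∧ ∀ x : MM C, (β x : K) = c * x * c⁻¹ := by
  obtain ⟨d, hd, h1⟩ := step1 β
  obtain ⟨i, hi⟩ := step3 D _ (step2 hp _ h1)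
  set β₁ := (cj C hd)⁻¹ * β with hβ₁
  have hL := FusionCent.large C
  have hρ : C.ρ ^ i ∈ MM C := (MM C).pow_mem (rho_mem_MM C) i
  have hz : ∀ g : MM C, g * (⟨C.z, z_mem_MM C⟩ : MM C) = ⟨C.z, z_mem_MM C⟩ * g := fun g =>
    Subtype.ext (comm_z g.2)
  have hext : Cfsg.IsExtraspecial 2 (C.Q.subgroupOf (MM C)) :=
    Cfsg.Agent.J2.ExtQuot.isExtraspecial_of_equiv (Subgroup.subgroupOfEquivOfLe (Q_le_MM C)).symm
      (LargeExtra.Nine.ToCent.isExtraspecial_Q hL (by rw [C.Q_card]; norm_num))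
  have hz1 : (⟨C.z, z_mem_MM C⟩ : MM C) ≠ 1 := fun h => hL.z_ne (congrArg Subtype.val h)
  obtain ⟨x, hx, h2⟩ := OutQ.exists_conj_mul (K := MM C) (z := ⟨C.z, z_mem_MM C⟩) hz1
    (Subtype.ext (PreHexA.zz C)) (C.Q.subgroupOf (MM C)) hext C.z_mem_Q (fun q _ => hz q)
    (fun c _ q hq => C.Q_conj c (comm_z c.2) q hq)
    (by
      intro c hc
      rcases C.Q_cent (c : K) (fun q hq => congrArg Subtype.val (hc ⟨q, Q_le_MM C hq⟩ hq)) with h | h
      · exact Or.inl (Subtype.ext h)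
      · exact Or.inr (Subtype.ext h))
    (index_ne_two (commutator_eq_top hp) hz) β₁
    (by
      -- `β₁ z = z`
      have hc : ∀ y : MM C, β₁ ⟨C.z, z_mem_MM C⟩ * y = y * β₁ ⟨C.z, z_mem_MM C⟩ := by
        intro y
        obtain ⟨w, rfl⟩ := β₁.surjective y
        rw [← map_mul, ← map_mul, hz w]
      rcases C.Q_cent (β₁ ⟨C.z, z_mem_MM C⟩ : MM C) (fun q hq =>
        congrArg Subtype.val (hc ⟨q, Q_le_MM C hq⟩)) with h | h
      · exfalso
        apply hz1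
        apply β₁.injective
        rw [map_one]
        exact Subtype.ext h
      · exact Subtype.ext h)
    (c₀ := ⟨C.ρ ^ i, hρ⟩) (hz _)
    (by
      intro q hq
      have h3 := hi q hq
      have h4 : C.ρ ^ i * q * (C.ρ ^ i)⁻¹ ∈ C.Q := C.Q_conj _ (comm_z hρ) q hq
      rcases (co_eq_iff D (map_Q β₁ hq) h4).1 h3 with h5 | h5
      · exact Or.inl (Subtype.ext h5)
      · right
        apply Subtype.ext
        show (β₁ q : K) = C.ρ ^ i * q * (C.ρ ^ i)⁻¹ * C.z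
        rw [h5]
        exact (comm_z (Q_le_MM C h4)).symm)
  refine ⟨d * (C.ρ ^ i * x), ?_, fun c => ?_⟩
  · have h3 : (C.ρ ^ i * (x : K)) * C.z = C.z * (C.ρ ^ i * (x : K)) :=
      comm_z ((MM C).mul_mem hρ x.2)
    rw [mul_assoc, h3, ← mul_assoc, hd, mul_assoc]
  · have h3 := congrArg Subtype.val (h2 c (hz c))
    have h4 : (β₁ c : K) = d⁻¹ * β c * d := cj_inv_mul_coe hd β c
    have h5 : (β c : K) = d * (β₁ c) * d⁻¹ := by rw [h4]; group
    rw [h5, h3]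
    show d * (C.ρ ^ i * (x : K) * c * (C.ρ ^ i * (x : K))⁻¹) * d⁻¹ =
      d * (C.ρ ^ i * (x : K)) * c * (d * (C.ρ ^ i * (x : K)))⁻¹
    group

end Cfsg.Agent.KFacts.J4.AutP
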