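import Mathlib
import Cfsg.Agent.J4C.Final

/-!
# The structure of the involution centraliser of J4: the explicit homomorphism

`exists_data`: a group `C` of order at most `21799895040` that contains the 26 matrices has a surjection `θ` onto the
automorphism group of the Steiner system `S(3,6,22)` with kernel `EE ⟨r⟩` of order `3 · 2^13`, `EE` extraspecial and
normal, and there are `a, b` with `θ(a)³ = θ(b)³ = 1` and `a b = z · prd 75 · r · b a`.
-/

set_option autoImplicit false

namespace Cfsg.Agent.KFacts.J4.DataR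

open Cfsg.Agent.J4C.Data Cfsg.Agent.J4C.Steiner Cfsg.Agent.J4C.Theta Cfsg.Agent.J4C.Act
open Cfsg.Agent.J4C.Ext Cfsg.Agent.J4C.ExtThm Cfsg.Agent.J4C.Struct Cfsg.Agent.J4C.Final
open Cfsg.Agent.Lib Cfsg.Agent.Lib.F2MatGroup
open Cfsg.Agent.LargeExtra.Model Cfsg.Agent.LargeExtra.Pres

/-- the abstract part: the partial homomorphism is defined everywhere -/
theorem extend {C : Type*} [Group C] [Finite C] (hC : Nat.card C ≤ 21799895040) {A : Type*}
    [Group A] [Finite A] (hA : Nat.card A = 887040)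
    (C0 : Subgroup C) (θ : C0 →* A) (himg : 887040 ≤ Nat.card θ.range) (E : Subgroup C)
    (hE0 : E ≤ C0) (hEk : ∀ e (he : e ∈ E), θ ⟨e, hE0 he⟩ = 1) (hEcard : Nat.card E = 2 ^ 13)
    (r : C) (hr0 : r ∈ C0) (hrk : θ ⟨r, hr0⟩ = 1)
    (hr3 : r ^ 3 = 1) (hr1 : r ≠ 1) (hrE : ∀ e ∈ E, r * e * r⁻¹ ∈ E) :
    ∃ θ' : C →* A, Function.Surjective θ' ∧ Nat.card θ'.ker = 3 * 2 ^ 13 ∧
      (∀ c : C0, θ' c = θ c) ∧ E ≤ θ'.ker ∧ r ∈ θ'.ker ∧ E.Normal := by
  have hfac : Nat.card C0 = Nat.card θ.range * Nat.card θ.ker := by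
    rw [Subgroup.card_eq_card_quotient_mul_card_subgroup θ.ker,
      Nat.card_congr (QuotientGroup.quotientKerEquivRange θ).toEquiv]
  have hrange : Nat.card θ.range ≤ 887040 := by
    rw [← hA]; exact Subgroup.card_le_card_group _
  have hrange' : Nat.card θ.range = 887040 := le_antisymm hrange himg
  have h2 : 2 ^ 13 ∣ Nat.card θ.ker := by
    have h3 : E.subgroupOf C0 ≤ θ.ker := by
      intro x hx
      rw [MonoidHom.mem_ker]
      exact hEk x hx
    have h4 : Nat.card (E.subgroupOf C0) = 2 ^ 13 := by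
      rw [Nat.card_congr (Subgroup.subgroupOfEquivOfLe hE0).toEquiv, hEcard]
    rw [← h4]; exact Subgroup.card_dvd_of_le h3
  have h3 : 3 ∣ Nat.card θ.ker := by
    have : Fact (Nat.Prime 3) := ⟨by norm_num⟩
    have ho : orderOf r = 3 := orderOf_eq_prime hr3 hr1
    have hk : (⟨r, hr0⟩ : C0) ∈ θ.ker := MonoidHom.mem_ker.mpr hrk
    have ho' : orderOf (⟨⟨r, hr0⟩, hk⟩ : θ.ker) = 3 := by
      rw [Subgroup.orderOf_mk, Subgroup.orderOf_mk, ho]
    rw [← ho']; exact orderOf_dvd_natCard _
  have h4 : 3 * 2 ^ 13 ∣ Nat.card θ.ker :=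
    Nat.Coprime.mul_dvd_of_dvd_of_dvd (by norm_num) h3 h2
  have h5 : 3 * 2 ^ 13 ≤ Nat.card θ.ker := Nat.le_of_dvd Nat.card_pos h4
  have h6 : Nat.card C0 ≤ Nat.card C := Subgroup.card_le_card_group _
  rw [hfac, hrange'] at h6
  have h7 : Nat.card θ.ker = 3 * 2 ^ 13 := by
    apply le_antisymm _ h5
    have h8 : 887040 * Nat.card θ.ker ≤ 887040 * (3 * 2 ^ 13) := by
      refine h6.trans (hC.trans ?_)
      norm_num
    exact Nat.le_of_mul_le_mul_left h8 (by norm_num)
  have h8 : C0 = ⊤ := by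
    apply Subgroup.eq_top_of_le_card
    rw [hfac, hrange', h7]
    refine hC.trans ?_
    norm_num
  subst h8
  have hsurj : Function.Surjective θ := by
    rw [← MonoidHom.range_eq_top]
    apply Subgroup.eq_top_of_le_card
    rw [hrange', hA]
  let e : C ≃* (⊤ : Subgroup C) := Subgroup.topEquiv.symm
  let θ' : C →* A := θ.comp e.toMonoidHom
  have hθ' : Function.Surjective θ' := by
    intro a
    obtain ⟨x, hx⟩ := hsurj a
    exact ⟨x, by rw [← hx]; rfl⟩
  have hker : Nat.card θ'.ker = 3 * 2 ^ 13 := by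
    rw [← h7]
    apply Nat.card_congr
    exact
      { toFun := fun x => ⟨e x, x.2⟩
        invFun := fun x => ⟨x.1.1, x.2⟩
        left_inv := fun _ => rfl
        right_inv := fun _ => rfl }
  have hEk' : E ≤ θ'.ker := fun x hx => hEk x hx
  have hrk' : r ∈ θ'.ker := hrk
  refine ⟨θ', hθ', hker, fun c => rfl, hEk', hrk', ?_⟩
  refine normal_of_index_three θ'.ker E hEk' hEcard hker ?_
  let W : Subgroup C := θ'.ker ⊓ Subgroup.normalizer (E : Set C)
  have hEW : E ≤ W := le_inf hEk' Subgroup.le_normalizer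
  have hrW : r ∈ W := by
    refine ⟨hrk', ?_⟩
    show r ∈ Subgroup.normalizer (E : Set C)
    rw [Subgroup.mem_normalizer_iff]
    intro e
    constructor
    · intro he; exact hrE e he
    · intro he
      have hr2 : r⁻¹ = r * r := by
        rw [inv_eq_iff_mul_eq_one, ← pow_two, ← pow_succ']; exact hr3
      have h1 := hrE _ (hrE _ he)
      have h2 : r * (r * (r * e * r⁻¹) * r⁻¹) * r⁻¹ = r ^ 3 * e * (r ^ 3)⁻¹ := by
        rw [pow_three]; group
      rw [h2, hr3] at h1
      simpa using h1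
  have h2 : 2 ^ 13 ∣ Nat.card W := by
    rw [← hEcard]; exact Subgroup.card_dvd_of_le hEW
  have h3 : 3 ∣ Nat.card W := by
    have : Fact (Nat.Prime 3) := ⟨by norm_num⟩
    have ho : orderOf r = 3 := orderOf_eq_prime hr3 hr1
    have ho' : orderOf (⟨r, hrW⟩ : W) = 3 := by rw [← ho]; exact Subgroup.orderOf_mk r hrW
    rw [← ho']; exact orderOf_dvd_natCard _
  have h4 : 3 * 2 ^ 13 ∣ Nat.card W :=
    Nat.Coprime.mul_dvd_of_dvd_of_dvd (by norm_num) h3 h2
  have h5 : Nat.card W ≤ Nat.card θ'.ker := Subgroup.card_le_of_le inf_le_left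
  have h6 : W = θ'.ker := by
    apply Subgroup.eq_of_le_of_card_ge inf_le_left
    rw [hker]
    exact Nat.le_of_dvd Nat.card_pos h4
  intro n hn q hq
  have h7 : n ∈ W := by rw [h6]; exact hn
  exact (Subgroup.mem_normalizer_iff.mp h7.2 q).mp hq

/-- the words `a`, `b` in the list extended by the straight line program -/
def wa : List ℕ := [23, 44, 44]
def wb : List ℕ := [19, 43, 41, 42, 23, 44, 44, 45, 44, 43, 19]

theorem check_ab : check 112 mats prog [(wa ++ wb, [17] ++ (pw 12 75 ++ ([0] ++ (wb ++ wa))))] [] = true := by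
  decide +kernel

theorem tau_a : evG (runG prog tauL) wa ^ 3 = 1 := by decide +kernel

theorem tau_b : evG (runG prog tauL) wb ^ 3 = 1 := by decide +kernel

/-- **The explicit homomorphism.** -/
theorem exists_data {C : Type*} [Group C] [Finite C] (φ : C →* GL (Fin 112) (ZMod 2))
    (hφ : Function.Injective φ) (hcard : Nat.card C ≤ 21799895040) (s : Fin 26 → C)
    (hs : ∀ i, Codes 112 (φ (s i)) (mats.getD i 0)) :
    ∃ (θ : C →* Cfsg.setSystemAut (Set.range blk)) (L : List C)
      (hL : List.Forall₂ (Codes 112) (L.map φ) mats), Function.Surjective θ ∧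
      Nat.card θ.ker = 3 * 2 ^ 13 ∧ EE φ hφ L hL ≤ θ.ker ∧ re L ∈ θ.ker ∧
      (EE φ hφ L hL).Normal ∧ θ (evG (runG prog L) wa) ^ 3 = 1 ∧
      θ (evG (runG prog L) wb) ^ 3 = 1 := by
  classical
  obtain ⟨hA, -, H, hH, hM⟩ := Cfsg.Agent.S0414.result (α := Fin 22) (by simp) isSteiner
  let _ := act φ
  obtain ⟨θ, hθ⟩ := exists_theta (vec C) blk (vec_injective C) hblk s (fun i => tau (up i))
    (fun i => mem_pairs φ i (s i) (hs i))
  let C0 : Subgroup C := Subgroup.closure (Set.range s)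
  let s' : Fin 26 → C0 := fun i => ⟨s i, Subgroup.subset_closure ⟨i, rfl⟩⟩
  let f : C0 →* Equiv.Perm (Fin 22) := (Subgroup.subtype _).comp θ
  have hfs : ∀ i, f (s' i) = tau (up i) := hθ
  let g0 : Fin 28 → C0 := ext28 s'
  have hf : ∀ i, f (g0 i) = tau i := by
    intro i
    show f (ext28 s' i) = tau i
    unfold ext28
    split_ifs with h1 h2
    · rw [hfs]; rfl
    · rw [map_inv, hfs]
      have : i = 26 := Fin.ext h2
      rw [this, ← tau_inv1]; rfl
    · rw [map_inv, hfs]
      have : i = 27 := Fin.ext (by have := i.2; omega)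
      rw [this, ← tau_inv2]; rfl
  let L0 : List C0 := (List.finRange 28).map g0
  have hL0 : L0.map f = tauL := by
    rw [List.map_map, tauL]
    apply List.map_congr_left
    intro i _
    exact hf i
  have hcodes : ∀ i : Fin 28, Codes 112 (φ (g0 i : C)) (mats.getD i 0) := by
    intro i
    show Codes 112 (φ ((ext28 s' i : C0) : C)) (mats.getD i 0)
    unfold ext28
    split_ifs with h1 h2
    · exact hs ⟨i, h1⟩
    · rw [h2, Subgroup.coe_inv, map_inv]
      exact codes26 (hs ⟨23, by norm_num⟩)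
    · have h3 : i.1 = 27 := by have := i.2; omega
      rw [h3, Subgroup.coe_inv, map_inv]
      exact codes27 (hs ⟨24, by norm_num⟩)
  let L : List C := L0.map C0.subtype
  have hL : List.Forall₂ (Codes 112) (L.map φ) mats := by
    rw [mats_eq, List.map_map, List.map_map, List.forall₂_map_left_iff,
      List.forall₂_map_right_iff, List.forall₂_same]
    intro i _
    exact hcodes i
  -- the elements of the straight line program lie in `C0` and in the kernel
  have hget : ∀ i, getG (runG prog L) i = (getG (runG prog L0) i : C0) := by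
    intro i
    show getG (runG prog (L0.map C0.subtype)) i = _
    rw [runG_map, getG_map]; rfl
  have hone : ∀ i : Fin 18, i.1 ≠ 1 → i.1 ≠ 2 → i.1 ≠ 15 → i.1 ≠ 16 →
      θ (getG (runG prog L0) i) = 1 := by
    intro i h1 h2 h3 h4
    apply Subtype.ext
    show f (getG (runG prog L0) i) = 1
    rw [← getG_map, ← runG_map, hL0]
    exact words_ok i h1 h2 h3 h4
  let K : Subgroup C := θ.ker.map C0.subtype
  have hK : ∀ i : Fin 18, i.1 ≠ 1 → i.1 ≠ 2 → i.1 ≠ 15 → i.1 ≠ 16 → getG (runG prog L) i ∈ K := by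
    intro i h1 h2 h3 h4
    rw [hget]
    exact ⟨_, hone i h1 h2 h3 h4, rfl⟩
  have hEK : EE φ hφ L hL ≤ K := by
    apply EE_le
    · exact hK 17 (by decide) (by decide) (by decide) (by decide)
    · intro i hi
      have h1 : Nat.sub 14 i = 14 - i := rfl
      refine hK ⟨qi i, ?_⟩ ?_ ?_ ?_ ?_ <;> simp only [qi] <;> omega
  have hE0 : EE φ hφ L hL ≤ C0 := by
    refine hEK.trans ?_
    rintro _ ⟨x, -, rfl⟩
    exact x.2
  have hrK : re L ∈ K := hK 0 (by decide) (by decide) (by decide) (by decide)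
  have hr0 : re L ∈ C0 := by
    obtain ⟨x, -, hx⟩ := hrK
    rw [← hx]; exact x.2
  have hKe : ∀ e (he : e ∈ C0), e ∈ K → θ ⟨e, he⟩ = 1 := by
    rintro e he ⟨x, hx, rfl⟩
    exact hx
  have himg : 887040 ≤ Nat.card θ.range := by
    have h1 : 887040 ≤ Nat.card f.range := by
      apply Cfsg.Agent.J4C.Steiner.card_ge
      intro i
      exact ⟨g0 i, hf i⟩
    have h2 : f.range = θ.range.map (Subgroup.subtype _) := by
      rw [MonoidHom.map_range]
    rw [h2] at h1
    rwa [← Nat.card_congr (Subgroup.equivMapOfInjective θ.range _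
      (Subgroup.subtype_injective _)).toEquiv] at h1
  obtain ⟨θ', h1, h2, h3, h4, h5, h6⟩ := extend hcard hA C0 θ himg (EE φ hφ L hL) hE0
    (fun e he => hKe e (hE0 he) (hEK he)) (card_EE φ hφ L hL)
    (re L) hr0 (hKe _ hr0 hrK) (r_cube φ hφ L hL) (r_ne φ L hL) (r_normalizes φ hφ L hL)
  have hword : ∀ w : List ℕ, ((θ' (evG (runG prog L) w) : Cfsg.setSystemAut (Set.range blk)) :
      Equiv.Perm (Fin 22)) = evG (runG prog tauL) w := by
    intro w
    have e1 : evG (runG prog L) w = ((evG (runG prog L0) w : C0) : C) := by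
      show evG (runG prog (L0.map C0.subtype)) w = _
      rw [runG_map, evG_map]; rfl
    rw [e1, h3, ← hL0, runG_map, evG_map]
    rfl
  refine ⟨θ', L, hL, h1, h2, h4, h5, h6, ?_, ?_⟩
  · apply Subtype.ext
    rw [Subgroup.coe_pow, hword, tau_a]; rfl
  · apply Subtype.ext
    rw [Subgroup.coe_pow, hword, tau_b]; rfl

/-- the commutator relation -/
theorem comm_rel {C : Type*} [Group C] (φ : C →* GL (Fin 112) (ZMod 2))
    (hφ : Function.Injective φ) (L : List C) (hL : List.Forall₂ (Codes 112) (L.map φ) mats) :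
    ∃ e ∈ EE φ hφ L hL, evG (runG prog L) wa * evG (runG prog L) wb *
      (evG (runG prog L) wa)⁻¹ * (evG (runG prog L) wb)⁻¹ = e * re L := by
  have h := (check_sound (by norm_num) hL check_ab).1 _ (List.mem_singleton.2 rfl)
  have h2 : evG (runG prog L) (wa ++ wb) =
      evG (runG prog L) ([17] ++ (pw 12 75 ++ ([0] ++ (wb ++ wa)))) := by
    apply hφ
    rw [← evG_map, ← evG_map, ← runG_map]
    exact h
  rw [evG_append, evG_append, evG_append, evG_append, evG_append, evG_pw] at h2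
  refine ⟨ze L * prd (xx L) 12 75, Subgroup.mul_mem _ (z_mem φ hφ L hL)
    (prd_mem _ (fun j hj => x_mem φ hφ L hL j hj) _), ?_⟩
  have h3 : evG (runG prog L) [17] = ze L := by
    rw [evG_cons, evG_nil, mul_one]; rfl
  have h4 : evG (runG prog L) [0] = re L := by
    rw [evG_cons, evG_nil, mul_one]; rfl
  rw [h3, h4] at h2
  rw [h2]
  group

end Cfsg.Agent.KFacts.J4.DataR
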