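import Mathlib
import Cfsg.Prelude.Def_Sporadic
import Cfsg.Agent.J4Type.Base
import Cfsg.Agent.S1663

/-!
# The hypotheses of S1670 from a surjection onto `M22.2`
-/

set_option autoImplicit false

namespace Cfsg.Agent.KFacts.J4.MkHyp

open scoped commutatorElement

/-- `M22` is generated by its squares -/
theorem mem_of_squares {H : Type*} [Group H] [Finite H] (hM : Cfsg.IsM22 H) (T : Subgroup H) (hT : T.Normal)
    (h : ∀ x : H, x * x ∈ T) : T = ⊤ := by
  have := hM.1
  rcases hT.eq_bot_or_eq_top with h1 | h1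
  · exfalso
    have h2 : ∀ x : H, x * x = 1 := fun x => by
      have := h x
      rwa [h1, Subgroup.mem_bot] at this
    have : Fact (Nat.Prime 3) := ⟨by norm_num⟩
    obtain ⟨x, hx⟩ := exists_prime_orderOf_dvd_card' (G := H) 3 (by rw [hM.2]; norm_num)
    have h3 : orderOf x ∣ 2 := orderOf_dvd_of_pow_eq_one (by rw [pow_two]; exact h2 x)
    rw [hx] at h3
    norm_num at h3
  · exact h1

/-- `M22` is perfect -/
theorem comm_eq_top {H : Type*} [Group H] [Finite H] (hM : Cfsg.IsM22 H) : commutator H = ⊤ := by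
  have := hM.1
  rcases (inferInstance : (commutator H).Normal).eq_bot_or_eq_top with h1 | h1
  · exfalso
    have hcomm : ∀ x y : H, x * y = y * x := by
      intro x y
      have h2 : ⁅x, y⁆ ∈ commutator H := Subgroup.commutator_mem_commutator trivial trivial
      rw [h1, Subgroup.mem_bot, commutatorElement_eq_one_iff_mul_comm] at h2
      exact h2
    let S : Subgroup H := ⊤
    have : Fact (Nat.Prime 11) := ⟨by norm_num⟩
    obtain ⟨x, hx⟩ := exists_prime_orderOf_dvd_card' (G := H) 11 (by rw [hM.2]; norm_num)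
    have hn : (Subgroup.zpowers x).Normal := by
      constructor
      intro n hn g
      rw [hcomm g n, mul_assoc, mul_inv_cancel, mul_one]
      exact hn
    rcases hn.eq_bot_or_eq_top with h2 | h2
    · rw [Subgroup.zpowers_eq_bot] at h2
      rw [h2, orderOf_one] at hx
      norm_num at hx
    · have h3 : Nat.card (Subgroup.zpowers x) = Nat.card H := by
        rw [h2]; exact Nat.card_congr Subgroup.topEquiv.toEquiv
      rw [Nat.card_zpowers, hx, hM.2] at h3
      norm_num at h3
  · exact h1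

theorem core {C : Type*} [Group C] [Finite C]
    {A : Type*} [Group A] [Finite A] (θ : C →* A)
    (hs : Function.Surjective θ) (H : Subgroup A) (hH : H.index = 2) (hM : Cfsg.IsM22 H)
    (hcen : ∀ a : A, (∀ h ∈ H, a * h = h * a) → a = 1) (N M : Subgroup C) (hN : N = θ.ker)
    (hM' : M = H.comap θ)
    (hk : Nat.card N = 3 * 2 ^ 13) (Q : Subgroup C)
    (hQn : Q.Normal) (hQk : Q ≤ N) (hQc : Nat.card Q = 2 ^ 13)
    (r a b : C) (hrk : r ∈ N)
    (hr : ∃ e ∈ Q, ∀ x ∈ Q, r * e * r⁻¹ ≠ x * e * x⁻¹)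
    (ha : θ a ^ 3 = 1) (hb : θ b ^ 3 = 1) (hab : ∃ e ∈ Q, a * b * a⁻¹ * b⁻¹ = e * r) :
    ⁅M, N⁆ ≤ Q ∧ M ≤ ⁅M, M⁆ ⊔ Q ∧ Subgroup.centralizer (Q : Set C) ≤ Q := by
  have hHn : H.Normal := Subgroup.normal_of_index_eq_two hH
  have hNn : N.Normal := by rw [hN]; infer_instance
  have hMn : M.Normal := by rw [hM']; infer_instance
  have hMmem : ∀ m, m ∈ M ↔ θ m ∈ H := by
    intro m; rw [hM', Subgroup.mem_comap]
  have hNM : N ≤ M := by
    intro x hx
    rw [hN] at hx
    rw [hMmem, MonoidHom.mem_ker.mp hx]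
    exact H.one_mem
  have hrQ : r ∉ Q := by
    intro h
    obtain ⟨e, he, h1⟩ := hr
    exact h1 r h rfl
  -- the quotient `N / Q` has order 3 and is generated by `r`
  have hcardN : Nat.card (N.map (QuotientGroup.mk' Q)) = 3 := by
    have h1 := Subgroup.card_eq_card_quotient_mul_card_subgroup (Q.subgroupOf N)
    rw [hk, Nat.card_congr (Subgroup.subgroupOfEquivOfLe hQk).toEquiv, hQc] at h1
    have h2 : Nat.card (N ⧸ Q.subgroupOf N) = 3 := (Nat.eq_of_mul_eq_mul_right (by norm_num) h1).symm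
    rw [← h2]
    let f : N →* (N.map (QuotientGroup.mk' Q)) := (QuotientGroup.mk' Q).subgroupMap N
    have hf : Function.Surjective f := (QuotientGroup.mk' Q).subgroupMap_surjective N
    have hfk : f.ker = Q.subgroupOf N := by
      ext x
      rw [MonoidHom.mem_ker, Subgroup.mem_subgroupOf]
      constructor
      · intro h
        exact (QuotientGroup.eq_one_iff _).1 (congrArg Subtype.val h)
      · intro h
        exact Subtype.ext ((QuotientGroup.eq_one_iff _).2 h)
    rw [← hfk]
    exact (Nat.card_congr (QuotientGroup.quotientKerEquivOfSurjective f hf).toEquiv).symm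
  have hgen : ∀ n ∈ N, ∀ c ∈ N, c ∉ Q → ∃ k : ℤ, ∃ q ∈ Q, n = q * c ^ k := by
    intro n hn c hc hcQ
    have hc1 : QuotientGroup.mk' Q c ≠ 1 := by
      intro h
      exact hcQ ((QuotientGroup.eq_one_iff _).1 h)
    have hz : Subgroup.zpowers (QuotientGroup.mk' Q c) = N.map (QuotientGroup.mk' Q) := by
      have hle : Subgroup.zpowers (QuotientGroup.mk' Q c) ≤ N.map (QuotientGroup.mk' Q) := by
        rw [Subgroup.zpowers_le]
        exact ⟨c, hc, rfl⟩
      apply Subgroup.eq_of_le_of_card_ge hle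
      rw [hcardN]
      have h2 := Subgroup.card_dvd_of_le hle
      rw [hcardN, Nat.dvd_prime (by norm_num)] at h2
      rcases h2 with h2 | h2
      · exfalso
        apply hc1
        rw [Subgroup.card_eq_one, Subgroup.zpowers_eq_bot] at h2
        exact h2
      · omega
    have hn2 : QuotientGroup.mk' Q n ∈ Subgroup.zpowers (QuotientGroup.mk' Q c) := by
      rw [hz]; exact ⟨n, hn, rfl⟩
    obtain ⟨k, hk⟩ := Subgroup.mem_zpowers_iff.1 hn2
    refine ⟨k, n * (c ^ k)⁻¹, ?_, by group⟩
    rw [← QuotientGroup.eq_one_iff]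
    show QuotientGroup.mk' Q (n * (c ^ k)⁻¹) = 1
    rw [map_mul, map_inv, map_zpow, hk, mul_inv_cancel]
  -- elements with cube in `H`
  have hcube : ∀ x : A, x ^ 3 = 1 → x ∈ H := by
    intro x hx
    have h1 : x * x ∈ H := Subgroup.mul_self_mem_of_index_two hH x
    have h2 : x = (x * x)⁻¹ := by
      rw [eq_inv_iff_mul_eq_one, ← pow_three]
      exact hx
    rw [h2]
    exact H.inv_mem h1
  have haM : a ∈ M := (hMmem a).2 (hcube _ ha)
  have hbM : b ∈ M := (hMmem b).2 (hcube _ hb)
  -- `[M, N] ≤ Q`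
  have hcent : ⁅M, N⁆ ≤ Q := by
    let rb : C ⧸ Q := QuotientGroup.mk' Q r
    have hrb : ∀ c : C, (QuotientGroup.mk' Q c) * rb * (QuotientGroup.mk' Q c)⁻¹ = rb ∨
        (QuotientGroup.mk' Q c) * rb * (QuotientGroup.mk' Q c)⁻¹ = rb⁻¹ := by
      intro c
      have h1 : c * r * c⁻¹ ∈ N := hNn.conj_mem r hrk c
      obtain ⟨k, q, hq, h2⟩ := hgen _ h1 r hrk hrQ
      have h3 : (QuotientGroup.mk' Q c) * rb * (QuotientGroup.mk' Q c)⁻¹ = rb ^ k := by
        have h4 := congrArg (QuotientGroup.mk' Q) h2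
        rw [map_mul, map_mul, map_inv, map_mul, map_zpow] at h4
        have h5 : QuotientGroup.mk' Q q = 1 := (QuotientGroup.eq_one_iff _).2 hq
        rw [h5, one_mul] at h4
        exact h4
      have h4 : rb ^ 3 = 1 := by
        have h5 : (⟨rb, ⟨r, hrk, rfl⟩⟩ : N.map (QuotientGroup.mk' Q)) ^ 3 = 1 := by
          rw [← hcardN]; exact pow_card_eq_one'
        exact congrArg Subtype.val h5
      have h5 : rb ≠ 1 := fun h => hrQ ((QuotientGroup.eq_one_iff _).1 h)
      have h6 : rb ^ k = rb ^ (k % 3) := by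
        conv_lhs => rw [← Int.mul_ediv_add_emod k 3]
        rw [zpow_add, zpow_mul]
        have : rb ^ (3 : ℤ) = 1 := by exact_mod_cast h4
        rw [this, one_zpow, one_mul]
      have h7 : k % 3 = 0 ∨ k % 3 = 1 ∨ k % 3 = 2 := by omega
      rw [h3, h6]
      rcases h7 with h7 | h7 | h7
      · exfalso
        rw [h6, h7, zpow_zero, mul_inv_eq_one] at h3
        exact h5 (mul_eq_left.1 h3)
      · left; rw [h7, zpow_one]
      · right
        rw [h7, eq_inv_iff_mul_eq_one]
        have : rb ^ (2 : ℤ) = rb * rb := by rw [show (2 : ℤ) = 1 + 1 by norm_num, zpow_add, zpow_one]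
        rw [this, mul_assoc, ← pow_three]
        exact h4
    -- elements commuting with `rb`
    let K1 : Subgroup C := (Subgroup.centralizer ({rb} : Set (C ⧸ Q))).comap (QuotientGroup.mk' Q)
    have hK1 : ∀ c : C, c ∈ K1 ↔ QuotientGroup.mk' Q c * rb = rb * QuotientGroup.mk' Q c := by
      intro c
      rw [Subgroup.mem_comap, Subgroup.mem_centralizer_singleton_iff]
    have hsq : ∀ c : C, c * c ∈ K1 := by
      intro c
      rw [hK1, map_mul, ← mul_inv_eq_iff_eq_mul]
      set d := QuotientGroup.mk' Q c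
      have e1 : d * d * rb * (d * d)⁻¹ = d * (d * rb * d⁻¹) * d⁻¹ := by group
      rw [e1]
      rcases hrb c with h | h
      · rw [h, h]
      · rw [h]
        have e2 : d * rb⁻¹ * d⁻¹ = (d * rb * d⁻¹)⁻¹ := by group
        rw [e2, h, inv_inv]
    have hNK : N ≤ K1 := by
      intro n hn
      obtain ⟨k, q, hq, rfl⟩ := hgen n hn r hrk hrQ
      rw [hK1, map_mul, map_zpow, show QuotientGroup.mk' Q q = 1 from
        (QuotientGroup.eq_one_iff q).2 hq, one_mul]
      exact ((Commute.refl rb).zpow_left k).eq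
    have hK1n : K1.Normal := by
      constructor
      intro n hn c
      rw [hK1] at hn ⊢
      rw [map_mul, map_mul, map_inv]
      set d := QuotientGroup.mk' Q c
      set m := QuotientGroup.mk' Q n
      rcases hrb c⁻¹ with h | h
      · rw [map_inv, inv_inv] at h
        have h1 : d⁻¹ * rb = rb * d⁻¹ := eq_mul_inv_of_mul_eq h
        have h2 : d * rb = rb * d := by
          have : d * (d⁻¹ * rb) * d = d * (rb * d⁻¹) * d := by rw [h1]
          calc d * rb = d * (rb * d⁻¹) * d := by group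
            _ = d * (d⁻¹ * rb) * d := by rw [h1]
            _ = rb * d := by group
        calc d * m * d⁻¹ * rb = d * m * (d⁻¹ * rb) := by group
          _ = d * (m * rb) * d⁻¹ := by rw [h1]; group
          _ = (d * rb) * m * d⁻¹ := by rw [hn]; group
          _ = rb * (d * m * d⁻¹) := by rw [h2]; group
      · rw [map_inv, inv_inv] at h
        have h1 : d⁻¹ * rb = rb⁻¹ * d⁻¹ := eq_mul_inv_of_mul_eq h
        have h2 : d * rb⁻¹ = rb * d := by
          calc d * rb⁻¹ = d * (rb⁻¹ * d⁻¹) * d := by group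
            _ = d * (d⁻¹ * rb) * d := by rw [h1]
            _ = rb * d := by group
        have h3 : m * rb⁻¹ = rb⁻¹ * m := by
          rw [mul_inv_eq_iff_eq_mul, mul_assoc, hn, ← mul_assoc, inv_mul_cancel, one_mul]
        calc d * m * d⁻¹ * rb = d * m * (d⁻¹ * rb) := by group
          _ = d * (m * rb⁻¹) * d⁻¹ := by rw [h1]; group
          _ = (d * rb⁻¹) * m * d⁻¹ := by rw [h3]; group
          _ = rb * (d * m * d⁻¹) := by rw [h2]; group
    -- the image of `K1 ∩ M` in `H`
    let T : Subgroup H := (K1.map θ).subgroupOf H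
    have hTn : T.Normal := by
      have : (K1.map θ).Normal := hK1n.map θ hs
      exact this.subgroupOf H
    have hTtop : T = ⊤ := by
      apply mem_of_squares hM T hTn
      intro x
      obtain ⟨c, hc⟩ := hs (x : A)
      show (((x * x : H) : A)) ∈ K1.map θ
      rw [Subgroup.coe_mul, ← hc, ← map_mul]
      exact ⟨c * c, hsq c, rfl⟩
    have hMK : M ≤ K1 := by
      intro m hm
      have h1 : (⟨θ m, (hMmem m).1 hm⟩ : H) ∈ T := by rw [hTtop]; trivial
      obtain ⟨c, hc, h2⟩ := h1
      have h2' : θ c = θ m := h2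
      have h3 : c⁻¹ * m ∈ N := by
        rw [hN, MonoidHom.mem_ker, map_mul, map_inv, h2', inv_mul_cancel]
      have h4 : m = c * (c⁻¹ * m) := by group
      rw [h4]
      exact K1.mul_mem hc (hNK h3)
    rw [Subgroup.commutator_le]
    intro m hm n hn
    obtain ⟨k, q, hq, rfl⟩ := hgen n hn r hrk hrQ
    rw [← QuotientGroup.eq_one_iff]
    show QuotientGroup.mk' Q (⁅m, q * r ^ k⁆) = 1
    rw [map_commutatorElement, map_mul, map_zpow, show QuotientGroup.mk' Q q = 1 from
      (QuotientGroup.eq_one_iff _).2 hq, one_mul, commutatorElement_eq_one_iff_mul_comm]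
    have hcm : Commute (QuotientGroup.mk' Q m) rb := (hK1 m).1 (hMK hm)
    exact (hcm.zpow_right k).eq
  -- `M / Q` perfect
  have hrD : r ∈ ⁅M, M⁆ ⊔ Q := by
    obtain ⟨e, he, h1⟩ := hab
    have h2 : r = e⁻¹ * (a * b * a⁻¹ * b⁻¹) := by rw [h1]; group
    rw [h2]
    apply Subgroup.mul_mem
    · exact (le_sup_right : Q ≤ _) (Q.inv_mem he)
    · exact (le_sup_left : ⁅M, M⁆ ≤ _) (Subgroup.commutator_mem_commutator haM hbM)
  have hND : N ≤ ⁅M, M⁆ ⊔ Q := by
    intro n hn
    obtain ⟨k, q, hq, rfl⟩ := hgen n hn r hrk hrQ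
    exact Subgroup.mul_mem _ ((le_sup_right : Q ≤ _) hq) (Subgroup.zpow_mem _ hrD k)
  have hθM : M.map θ = H := by rw [hM']; exact Subgroup.map_comap_eq_self_of_surjective hs H
  have hθMM : ⁅M, M⁆.map θ = H := by
    rw [Subgroup.map_commutator, hθM]
    have h1 := comm_eq_top hM
    have h2 : (commutator H).map H.subtype = ⁅H, H⁆ := by
      rw [commutator_def, Subgroup.map_commutator, ← MonoidHom.range_eq_map, Subgroup.range_subtype]
    rw [← h2, h1, ← MonoidHom.range_eq_map, Subgroup.range_subtype]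
  have hperf : M ≤ ⁅M, M⁆ ⊔ Q := by
    intro m hm
    have h1 : θ m ∈ ⁅M, M⁆.map θ := by rw [hθMM]; exact (hMmem m).1 hm
    obtain ⟨c, hc, h2⟩ := h1
    have h3 : c⁻¹ * m ∈ N := by
      rw [hN, MonoidHom.mem_ker, map_mul, map_inv, h2, inv_mul_cancel]
    have h4 : m = c * (c⁻¹ * m) := by group
    rw [h4]
    exact Subgroup.mul_mem _ ((le_sup_left : ⁅M, M⁆ ≤ _) hc) (hND h3)
  -- `C_C(Q) ≤ Q`
  have hself : Subgroup.centralizer (Q : Set C) ≤ Q := by
    set X := Subgroup.centralizer (Q : Set C) with hX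
    have hXn : X.Normal := by
      constructor
      intro x hx c
      rw [hX, Subgroup.mem_centralizer_iff] at hx ⊢
      intro q hq
      have h1 : c⁻¹ * q * c ∈ Q := by
        have := hQn.conj_mem q hq c⁻¹
        rwa [inv_inv] at this
      have h2 := hx _ h1
      calc q * (c * x * c⁻¹) = c * (c⁻¹ * q * c * x) * c⁻¹ := by group
        _ = c * (x * (c⁻¹ * q * c)) * c⁻¹ := by rw [h2]
        _ = c * x * c⁻¹ * q := by group
    have hXN : ∀ x ∈ X, x ∈ N → x ∈ Q := by
      intro x hx hxN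
      by_contra hxQ
      obtain ⟨k, q, hq, h1⟩ := hgen r hrk x hxN hxQ
      obtain ⟨e, he, h2⟩ := hr
      apply h2 q hq
      have h3 : x ^ k ∈ X := X.zpow_mem hx k
      have h4 := (Subgroup.mem_centralizer_iff.1 h3) e he
      rw [h1]
      calc q * x ^ k * e * (q * x ^ k)⁻¹ = q * (x ^ k * e) * (x ^ k)⁻¹ * q⁻¹ := by group
        _ = q * e * q⁻¹ := by rw [← h4]; group
    have hXA : (X.map θ).Normal := hXn.map θ hs
    have hsimp := hM.1
    rcases (hXA.subgroupOf H).eq_bot_or_eq_top with h1 | h1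
    · intro x hx
      apply hXN x hx
      rw [hN, MonoidHom.mem_ker]
      apply hcen
      intro h hh
      have h2 : θ x * h * (θ x)⁻¹ * h⁻¹ ∈ X.map θ := by
        have h3 : θ x * (h * (θ x)⁻¹ * h⁻¹) ∈ X.map θ :=
          Subgroup.mul_mem _ ⟨x, hx, rfl⟩ (hXA.conj_mem _ (Subgroup.inv_mem _ ⟨x, hx, rfl⟩) h)
        have h4 : θ x * h * (θ x)⁻¹ * h⁻¹ = θ x * (h * (θ x)⁻¹ * h⁻¹) := by group
        rw [h4]; exact h3
      have h3 : θ x * h * (θ x)⁻¹ * h⁻¹ ∈ H :=
        H.mul_mem (hHn.conj_mem h hh _) (H.inv_mem hh)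
      have h4 : (⟨_, h3⟩ : H) ∈ (X.map θ).subgroupOf H := h2
      rw [h1, Subgroup.mem_bot] at h4
      have h5 : θ x * h * (θ x)⁻¹ * h⁻¹ = 1 := congrArg Subtype.val h4
      rw [mul_inv_eq_one, mul_inv_eq_iff_eq_mul] at h5
      exact h5
    · exfalso
      have hXQn : (X ⊔ Q).Normal := inferInstance
      have hdec : ∀ m ∈ M, ∃ x ∈ X, ∃ n ∈ N, m = x * n := by
        intro m hm
        have h2 : (⟨θ m, (hMmem m).1 hm⟩ : H) ∈ (X.map θ).subgroupOf H := by rw [h1]; trivial
        obtain ⟨x, hx, h3⟩ := h2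
        have h3' : θ x = θ m := h3
        refine ⟨x, hx, x⁻¹ * m, ?_, by group⟩
        rw [hN, MonoidHom.mem_ker, map_mul, map_inv, h3', inv_mul_cancel]
      have hMM : ⁅M, M⁆ ≤ X ⊔ Q := by
        rw [Subgroup.commutator_le]
        intro m hm m' hm'
        obtain ⟨x, hx, n, hn, rfl⟩ := hdec m hm
        obtain ⟨x', hx', n', hn', rfl⟩ := hdec m' hm'
        rw [← QuotientGroup.eq_one_iff]
        show QuotientGroup.mk' (X ⊔ Q) ⁅x * n, x' * n'⁆ = 1
        rw [map_commutatorElement, map_mul, map_mul,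
          show QuotientGroup.mk' (X ⊔ Q) x = 1 from (QuotientGroup.eq_one_iff _).2
            ((le_sup_left : X ≤ _) hx),
          show QuotientGroup.mk' (X ⊔ Q) x' = 1 from (QuotientGroup.eq_one_iff _).2
            ((le_sup_left : X ≤ _) hx'), one_mul, one_mul, ← map_commutatorElement]
        show ((⁅n, n'⁆ : C) : C ⧸ (X ⊔ Q)) = 1
        rw [QuotientGroup.eq_one_iff]
        exact (le_sup_right : Q ≤ _) (hcent (Subgroup.commutator_mem_commutator (hNM hn) hn'))
      have hMX : M ≤ X ⊔ Q := hperf.trans (sup_le hMM le_sup_right)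
      have hrX : r ∈ X ⊔ Q := hMX (hNM hrk)
      obtain ⟨x, hx, q, hq, h2⟩ := Subgroup.mem_sup_of_normal_left.1 hrX
      apply hrQ
      rw [← h2]
      refine Q.mul_mem (hXN x hx ?_) hq
      have h3 : x = r * q⁻¹ := by rw [← h2]; group
      rw [h3]
      exact N.mul_mem hrk (N.inv_mem (hQk hq))
  exact ⟨hcent, hperf, hself⟩

theorem mk {G : Type*} [Group G] [Finite G] {t : G} (ht : orderOf t = 2)
    {A : Type*} [Group A] [Finite A] (θ : Subgroup.centralizer ({t} : Set G) →* A)
    (hs : Function.Surjective θ) (H : Subgroup A) (hH : H.index = 2) (hM : Cfsg.IsM22 H)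
    (hcen : ∀ a : A, (∀ h ∈ H, a * h = h * a) → a = 1)
    (hk : Nat.card θ.ker = 3 * 2 ^ 13) (Q : Subgroup (Subgroup.centralizer ({t} : Set G)))
    (hQn : Q.Normal) (hQk : Q ≤ θ.ker) (hQc : Nat.card Q = 2 ^ 13) (hQe : Cfsg.IsExtraspecial 2 Q)
    (hplus : ∃ E : Subgroup Q, Cfsg.IsElementaryAbelian 2 E ∧ Nat.card E = 2 ^ 7)
    (r a b : Subgroup.centralizer ({t} : Set G)) (hrk : r ∈ θ.ker)
    (hr : ∃ e ∈ Q, ∀ x ∈ Q, r * e * r⁻¹ ≠ x * e * x⁻¹)
    (ha : θ a ^ 3 = 1) (hb : θ b ^ 3 = 1) (hab : ∃ e ∈ Q, a * b * a⁻¹ * b⁻¹ = e * r) :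
    Cfsg.Agent.J4Type.Hyp t Q θ.ker (H.comap θ) := by
  obtain ⟨h1, h2, h3⟩ := core θ hs H hH hM hcen θ.ker (H.comap θ) rfl rfl hk Q hQn hQk hQc r a b
    hrk hr ha hb hab
  have hHn : H.Normal := Subgroup.normal_of_index_eq_two hH
  have hNM : θ.ker ≤ H.comap θ := by
    intro x hx
    rw [Subgroup.mem_comap, MonoidHom.mem_ker.mp hx]
    exact H.one_mem
  exact
    { ht := ht
      Qn := hQn
      Nn := inferInstance
      Mn := inferInstance
      QN := hQk
      NM := hNM
      index_M := by rw [Subgroup.index_comap_of_surjective H hs, hH]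
      extra := hQe
      card_Q := hQc
      plus := hplus
      card_N := by rw [hk, hQc]
      cent := h1
      perf := h2
      self := h3
      out := by
        intro c hc
        apply hNM
        rw [MonoidHom.mem_ker]
        apply hcen
        intro h hh
        obtain ⟨m, rfl⟩ := hs h
        have h1 := hc m hh
        rw [MonoidHom.mem_ker, map_mul, map_mul, map_mul, map_inv, map_inv] at h1
        rw [mul_inv_eq_one, mul_inv_eq_iff_eq_mul] at h1
        exact h1
      pi := by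
        obtain ⟨e⟩ := Cfsg.Agent.S1663.result hM
        let φ : (H.comap θ) →* H := (θ.comp (H.comap θ).subtype).codRestrict H (fun x => x.2)
        refine ⟨e.toMonoidHom.comp φ, ?_, ?_⟩
        · apply e.surjective.comp
          intro h
          obtain ⟨c, hc⟩ := hs h
          exact ⟨⟨c, by rw [Subgroup.mem_comap, hc]; exact h.2⟩, Subtype.ext hc⟩
        · intro m
          show e (φ m) = 1 ↔ _
          rw [map_eq_one_iff e e.injective, MonoidHom.mem_ker]
          constructor
          · intro h; exact congrArg Subtype.val h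
          · intro h; exact Subtype.ext h }

end Cfsg.Agent.KFacts.J4.MkHyp
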