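import Mathlib
import Cfsg.Agent.J4C.Link
import Cfsg.Agent.J4M.CenBound
import Cfsg.Agent.J4M.SimpleR
import Cfsg.Agent.KFacts.J4.DataR
import Cfsg.Agent.KFacts.J4.MkHyp
import Cfsg.Agent.J4Type.Top

/-!
# The fourth Janko group satisfies the hypotheses of S1670
-/

set_option autoImplicit false

namespace Cfsg.Agent.KFacts.J4.HypR

open Cfsg.Agent.J4C.Data Cfsg.Agent.J4C.Steiner Cfsg.Agent.J4C.Theta Cfsg.Agent.J4C.Act
open Cfsg.Agent.J4C.Ext Cfsg.Agent.J4C.ExtThm Cfsg.Agent.J4C.Struct Cfsg.Agent.J4C.Final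
open Cfsg.Agent.Lib Cfsg.Agent.Lib.F2MatGroup
open Cfsg.Agent.LargeExtra.Model Cfsg.Agent.LargeExtra.Pres
open Cfsg.Agent.KFacts.J4.DataR

theorem bf_low : ∀ v w : Fin 64, bf B 12 v.1 w.1 = false := by decide +kernel

/-- an elementary abelian subgroup of order `2^7` -/
def XE : Subgroup (XG B 12) where
  carrier := {g | g.v.1 < 64}
  one_mem' := by show (0 : ℕ) < 64; norm_num
  mul_mem' := by
    intro a b ha hb
    exact Nat.xor_lt_two_pow (n := 6) ha hb
  inv_mem' := by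
    intro a ha
    exact ha

theorem mem_XE (g : XG B 12) : g ∈ XE ↔ g.v.1 < 64 := Iff.rfl

theorem card_XE : Nat.card XE = 2 ^ 7 := by
  let e : XE ≃ Fin 64 × Bool :=
    { toFun := fun g => (⟨g.1.v.1, g.2⟩, g.1.s)
      invFun := fun p => ⟨⟨⟨p.1.1, p.1.2.trans (by norm_num)⟩, p.2⟩, p.1.2⟩
      left_inv := fun _ => rfl
      right_inv := fun _ => rfl }
  rw [Nat.card_congr e, Nat.card_prod, Nat.card_eq_fintype_card, Nat.card_eq_fintype_card,
    Fintype.card_fin, Fintype.card_bool]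
  norm_num

theorem XE_comm (g h : XG B 12) (hg : g ∈ XE) (hh : h ∈ XE) : g * h = h * g := by
  rw [comm_iff]
  rw [bf_low ⟨g.v.1, hg⟩ ⟨h.v.1, hh⟩, bf_low ⟨h.v.1, hh⟩ ⟨g.v.1, hg⟩]

theorem XE_sq (g : XG B 12) (hg : g ∈ XE) : g * g = 1 := by
  apply XG.ext'
  · rw [mul_v, Nat.xor_self]; rfl
  · rw [mul_s, bf_low ⟨g.v.1, hg⟩ ⟨g.v.1, hg⟩, one_s]
    cases g.s <;> rfl

section

variable {C : Type*} [Group C] (φ : C →* GL (Fin 112) (ZMod 2)) (hφ : Function.Injective φ)
  (L : List C) (hL : List.Forall₂ (Codes 112) (L.map φ) mats)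

theorem plus : ∃ E : Subgroup (EE φ hφ L hL), Cfsg.IsElementaryAbelian 2 E ∧ Nat.card E = 2 ^ 7 := by
  have hinj := lift_injective (rels φ hφ L hL) hTri hNon (z_ne φ L hL)
  let e : XG B 12 ≃* EE φ hφ L hL := MonoidHom.ofInjective hinj
  refine ⟨XE.map e.toMonoidHom, ?_, ?_⟩
  · constructor
    · constructor
      constructor
      rintro ⟨_, ⟨a, ha, rfl⟩⟩ ⟨_, ⟨b, hb, rfl⟩⟩
      apply Subtype.ext
      show e a * e b = e b * e a
      rw [← map_mul, XE_comm a b ha hb, map_mul]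
    · rintro _ ⟨a, ha, rfl⟩
      show e a ^ 2 = 1
      rw [pow_two, ← map_mul, XE_sq a ha, map_one]
  · rw [← card_XE]
    exact (Nat.card_congr (XE.equivMapOfInjective e.toMonoidHom e.injective).toEquiv).symm

theorem r_moves : ∃ e ∈ EE φ hφ L hL, ∀ x ∈ EE φ hφ L hL,
    re L * e * (re L)⁻¹ ≠ x * e * x⁻¹ := by
  have hinj := lift_injective (rels φ hφ L hL) hTri hNon (z_ne φ L hL)
  refine ⟨xx L 0, x_mem φ hφ L hL 0 (by norm_num), ?_⟩
  rintro _ ⟨g, rfl⟩ h
  have h1 := r_x φ hφ L hL 0 (by norm_num)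
  rw [← mul_inv_eq_iff_eq_mul] at h1
  have h2 : re L * xx L 0 * (re L)⁻¹ =
      zp (ze L) ((img.getD 0 (0, 0)).2.testBit 0) * prd (xx L) 12 (img.getD 0 (0, 0)).1 := by
    rw [r_x φ hφ L hL 0 (by norm_num)]; group
  have h3 : zp (ze L) ((img.getD 0 (0, 0)).2.testBit 0) * prd (xx L) 12 (img.getD 0 (0, 0)).1 =
      lift (rels φ hφ L hL) hTri ⟨⟨2, by norm_num⟩, true⟩ := rfl
  have h4 : xx L 0 = lift (rels φ hφ L hL) hTri (q B 12 ⟨0, by norm_num⟩) :=
    (lift_q _ _ ⟨0, by norm_num⟩).symm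
  rw [h2, h3] at h
  rw [h4, ← map_inv, ← map_mul, ← map_mul] at h
  have h5 := hinj h
  have h6 := congrArg (fun g : XG B 12 => g.v.1) h5
  have h7 : (g * q B 12 ⟨0, by norm_num⟩ * g⁻¹).v.1 = (g.v.1 ^^^ 1) ^^^ g.v.1 := rfl
  have h8 : (g.v.1 ^^^ 1) ^^^ g.v.1 = 1 := by
    rw [Nat.xor_comm g.v.1 1, Nat.xor_assoc, Nat.xor_self, Nat.xor_zero]
  rw [h7, h8] at h6
  exact absurd h6 (by norm_num)

end

theorem cen (H : Subgroup (Cfsg.setSystemAut (Set.range blk))) (hH : H.index = 2)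
    (hM : Cfsg.IsM22 H)
    (h3 : MulAction.IsMultiplyPretransitive (Cfsg.setSystemAut (Set.range blk)) (Fin 22) 3)
    (a : Cfsg.setSystemAut (Set.range blk)) (ha : ∀ h ∈ H, a * h = h * a) : a = 1 := by
  have hHn : H.Normal := Subgroup.normal_of_index_eq_two hH
  have hsimp := hM.1
  have hZ : ∀ b : Cfsg.setSystemAut (Set.range blk), b ∈ H → (∀ h ∈ H, b * h = h * b) → b = 1 := by
    intro b hb hb2
    have h1 : (⟨b, hb⟩ : H) ∈ Subgroup.center H := by
      rw [Subgroup.mem_center_iff]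
      intro g
      exact Subtype.ext (hb2 g g.2).symm
    rcases (inferInstance : (Subgroup.center H).Normal).eq_bot_or_eq_top with h2 | h2
    · rw [h2, Subgroup.mem_bot] at h1
      exact congrArg Subtype.val h1
    · exfalso
      have h4 : commutator H = ⊥ := by
        rw [commutator_def, Subgroup.commutator_eq_bot_iff_le_centralizer, ← h2]
        exact Subgroup.center_le_centralizer _
      have h5 := Cfsg.Agent.KFacts.J4.MkHyp.comm_eq_top hM
      rw [h4] at h5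
      have h6 : Nat.card H = 1 := by
        rw [← Subgroup.card_top (G := H), ← h5, Subgroup.card_bot]
      rw [hM.2] at h6
      norm_num at h6
  have hall : ∀ b : Cfsg.setSystemAut (Set.range blk), a * b = b * a := by
    intro b
    have h1 : a * b * a⁻¹ * b⁻¹ = 1 := by
      apply hZ
      · have h2 : ∀ x y : Cfsg.setSystemAut (Set.range blk) ⧸ H, x * y = y * x := by
          have hc : Nat.card (Cfsg.setSystemAut (Set.range blk) ⧸ H) = 2 := hH
          have : Fact (Nat.Prime 2) := ⟨Nat.prime_two⟩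
          have := isCyclic_of_prime_card (p := 2) hc
          intro x y
          obtain ⟨g, hg⟩ := IsCyclic.exists_generator (α := Cfsg.setSystemAut (Set.range blk) ⧸ H)
          obtain ⟨i, rfl⟩ := Subgroup.mem_zpowers_iff.1 (hg x)
          obtain ⟨j, rfl⟩ := Subgroup.mem_zpowers_iff.1 (hg y)
          rw [← zpow_add, ← zpow_add, add_comm]
        rw [← QuotientGroup.eq_one_iff]
        show ((a : Cfsg.setSystemAut (Set.range blk) ⧸ H) * b * (a : _ ⧸ H)⁻¹ * (b : _ ⧸ H)⁻¹) = 1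
        rw [h2 (a : _ ⧸ H) b]
        group
      · intro h hh
        have h2 : b⁻¹ * h * b ∈ H := by
          have := hHn.conj_mem h hh b⁻¹
          rwa [inv_inv] at this
        have h3 := ha _ h2
        have h3' : a⁻¹ * (b⁻¹ * h * b) = (b⁻¹ * h * b) * a⁻¹ := by
          rw [inv_mul_eq_iff_eq_mul, ← mul_assoc, h3]; group
        calc a * b * a⁻¹ * b⁻¹ * h = a * b * (a⁻¹ * (b⁻¹ * h * b)) * b⁻¹ := by group
          _ = a * b * ((b⁻¹ * h * b) * a⁻¹) * b⁻¹ := by rw [h3']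
          _ = (a * h) * b * a⁻¹ * b⁻¹ := by group
          _ = h * (a * b * a⁻¹ * b⁻¹) := by rw [ha h hh]; group
    rw [mul_inv_eq_one, mul_inv_eq_iff_eq_mul] at h1
    exact h1
  by_contra hne
  have hne' : (a : Equiv.Perm (Fin 22)) ≠ 1 := fun h => hne (Subtype.ext h)
  obtain ⟨x, hx⟩ : ∃ x, (a : Equiv.Perm (Fin 22)) x ≠ x := by
    by_contra hcon
    push Not at hcon
    exact hne' (Equiv.ext hcon)
  have h2 : MulAction.IsMultiplyPretransitive (Cfsg.setSystemAut (Set.range blk)) (Fin 22) 2 :=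
    MulAction.isMultiplyPretransitive_of_le (n := 3) (by norm_num) (by simp)
  obtain ⟨y, hyx, hy⟩ : ∃ y : Fin 22, y ≠ x ∧ y ≠ (a : Equiv.Perm (Fin 22)) x := by
    by_contra hcon
    push Not at hcon
    have h4 : (Finset.univ : Finset (Fin 22)) ⊆ {x, (a : Equiv.Perm (Fin 22)) x} := by
      intro y _
      by_cases h : y = x
      · simp [h]
      · simp [hcon y h]
    have h5 := Finset.card_le_card h4
    have h6 := Finset.card_insert_le x {(a : Equiv.Perm (Fin 22)) x}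
    simp only [Finset.card_univ, Fintype.card_fin, Finset.card_singleton] at h5 h6
    omega
  rw [MulAction.is_two_pretransitive_iff] at h2
  obtain ⟨g, hg1, hg2⟩ := h2 (a := x) (b := (a : Equiv.Perm (Fin 22)) x) (c := x) (d := y)
    hx.symm hyx.symm
  have h7 := hall g
  have h8 : (a * g) • x = (g * a) • x := by rw [h7]
  rw [mul_smul, mul_smul, hg1] at h8
  have h9 : g • (a • x) = y := hg2
  rw [h9] at h8
  exact hy h8.symm

open Cfsg.Agent.J4C.Link Cfsg.Agent.J4M.Base in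
/-- **J4 satisfies the hypotheses of S1670.** -/
theorem exists_hyp : ∃ Q N M : Subgroup Cz, Cfsg.Agent.J4Type.Hyp zR Q N M := by
  have hfin : Finite R := inferInstance
  obtain ⟨θ, L, hL, h1, h2, h3, h4, h5, h6, h7⟩ := exists_data emb emb_injective
    Cfsg.Agent.J4M.CenBound.card_Cz_le
    (fun i => ⟨sR i, Subgroup.mem_centralizer_singleton_iff.mpr (sR_comm i)⟩) (by
      intro i
      have h := codes_ev (sw i)
      rw [codes_ok i] at h
      exact h)
  obtain ⟨hA, htr, H, hH, hM⟩ := Cfsg.Agent.S0414.result (α := Fin 22) (by simp) isSteiner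
  exact ⟨_, _, _, Cfsg.Agent.KFacts.J4.MkHyp.mk orderOf_zR θ h1 H hH hM (cen H hH hM htr) h2
    (EE emb emb_injective L hL) h5 h3 (card_EE _ _ _ _) (isExtraspecial_EE _ _ _ _)
    (plus _ _ _ _) (re L) _ _ h4 (r_moves _ _ _ _) h6 h7 (comm_rel _ _ _ _)⟩

end Cfsg.Agent.KFacts.J4.HypR
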