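import Mathlib
import Cfsg.Agent.KFacts.J4.HypR
import Cfsg.Agent.S1703
import Cfsg.Agent.J2.ExtQuot

/-!
# Every group isomorphic to J4 satisfies the hypotheses of S1670

`exists_hyp_of_iso`: `IsoJ4 K → ∃ t Q N M, Hyp t Q N M`.
-/

set_option autoImplicit false

namespace Cfsg.Agent.KFacts.J4.Transport

open Cfsg.Agent.J4Type
open scoped commutatorElement

variable {G G' : Type*} [Group G] [Group G']

/-- the isomorphism between the centralisers -/
def cEquiv (e : G ≃* G') (t : G) :
    Subgroup.centralizer ({t} : Set G) ≃* Subgroup.centralizer ({e t} : Set G') where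
  toFun c := ⟨e c, Subgroup.mem_centralizer_singleton_iff.2 (by
    rw [← map_mul, Subgroup.mem_centralizer_singleton_iff.1 c.2, map_mul])⟩
  invFun c := ⟨e.symm c, Subgroup.mem_centralizer_singleton_iff.2 (by
    apply e.injective
    rw [map_mul, map_mul, e.apply_symm_apply]
    exact Subgroup.mem_centralizer_singleton_iff.1 c.2)⟩
  left_inv c := Subtype.ext (e.symm_apply_apply c)
  right_inv c := Subtype.ext (e.apply_symm_apply c)
  map_mul' a b := Subtype.ext (map_mul e (a : G) (b : G))

theorem cEquiv_coe (e : G ≃* G') (t : G) (c : Subgroup.centralizer ({t} : Set G)) :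
    ((cEquiv e t c : Subgroup.centralizer ({e t} : Set G')) : G') = e c := rfl

theorem transport (e : G ≃* G') {t : G} {Q N M : Subgroup (Subgroup.centralizer ({t} : Set G))}
    (H : Hyp t Q N M) : Hyp (e t) (Q.map (cEquiv e t).toMonoidHom) (N.map (cEquiv e t).toMonoidHom)
      (M.map (cEquiv e t).toMonoidHom) := by
  set c := cEquiv e t with hc
  have hfQ : Finite Q := Nat.finite_of_card_ne_zero (by rw [H.card_Q]; norm_num)
  have hcs : Function.Surjective c.toMonoidHom := c.surjective
  have hci : Function.Injective c.toMonoidHom := c.injective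
  have hQn := H.Qn
  have hNn := H.Nn
  have hMn := H.Mn
  have hcardQ : Nat.card (Q.map c.toMonoidHom) = Nat.card Q :=
    (Nat.card_congr (Q.equivMapOfInjective c.toMonoidHom hci).toEquiv).symm
  have hcardN : Nat.card (N.map c.toMonoidHom) = Nat.card N :=
    (Nat.card_congr (N.equivMapOfInjective c.toMonoidHom hci).toEquiv).symm
  exact
    { ht := by rw [MulEquiv.orderOf_eq]; exact H.ht
      Qn := hQn.map _ hcs
      Nn := hNn.map _ hcs
      Mn := hMn.map _ hcs
      QN := Subgroup.map_mono H.QN
      NM := Subgroup.map_mono H.NM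
      index_M := by
        rw [Subgroup.index_map_of_bijective c.bijective]
        exact H.index_M
      extra := Cfsg.Agent.J2.ExtQuot.isExtraspecial_of_equiv
        (Q.equivMapOfInjective c.toMonoidHom hci) H.extra
      card_Q := by rw [hcardQ, H.card_Q]
      plus := by
        obtain ⟨E, ⟨h1, h2⟩, h3⟩ := H.plus
        let f := Q.equivMapOfInjective c.toMonoidHom hci
        refine ⟨E.map f.toMonoidHom, ⟨?_, ?_⟩, ?_⟩
        · constructor
          constructor
          rintro ⟨_, ⟨a, ha, rfl⟩⟩ ⟨_, ⟨b, hb, rfl⟩⟩
          apply Subtype.ext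
          show f a * f b = f b * f a
          have h4 := h1.1.1 ⟨a, ha⟩ ⟨b, hb⟩
          have h5 : a * b = b * a := congrArg Subtype.val h4
          rw [← map_mul, h5, map_mul]
        · rintro _ ⟨a, ha, rfl⟩
          show f a ^ 2 = 1
          rw [← map_pow, h2 a ha, map_one]
        · rw [← h3]
          exact (Nat.card_congr (E.equivMapOfInjective f.toMonoidHom f.injective).toEquiv).symm
      card_N := by rw [hcardN, hcardQ, H.card_N]
      cent := by
        rw [← Subgroup.map_commutator]
        exact Subgroup.map_mono H.cent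
      perf := by
        rw [← Subgroup.map_commutator, ← Subgroup.map_sup]
        exact Subgroup.map_mono H.perf
      self := by
        intro x hx
        refine ⟨c.symm x, H.self ?_, c.apply_symm_apply x⟩
        rw [Subgroup.mem_centralizer_iff] at hx ⊢
        intro q hq
        have h1 := hx (c q) ⟨q, hq, rfl⟩
        apply c.injective
        rw [map_mul, map_mul, c.apply_symm_apply]
        exact h1
      out := by
        intro x hx
        refine ⟨c.symm x, H.out _ ?_, c.apply_symm_apply x⟩
        intro m hm
        obtain ⟨n, hn, h1⟩ := hx (c m) ⟨m, hm, rfl⟩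
        have h2 : c.symm x * m * (c.symm x)⁻¹ * m⁻¹ = n := by
          apply c.injective
          rw [map_mul, map_mul, map_mul, map_inv, map_inv, c.apply_symm_apply]
          exact h1.symm
        rw [h2]
        exact hn
      pi := by
        obtain ⟨π, h1, h2⟩ := H.pi
        let f := M.equivMapOfInjective c.toMonoidHom hci
        refine ⟨π.comp f.symm.toMonoidHom, h1.comp f.symm.surjective, ?_⟩
        intro m
        obtain ⟨m', rfl⟩ := f.surjective m
        show π (f.symm (f m')) = 1 ↔ _
        rw [f.symm_apply_apply, h2]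
        constructor
        · intro h; exact ⟨m', h, rfl⟩
        · rintro ⟨n, hn, h3⟩
          have h4 : n = m' := c.injective h3
          rw [← h4]; exact hn }

theorem exists_transport {t : G} {Q N M : Subgroup (Subgroup.centralizer ({t} : Set G))}
    (H : Hyp t Q N M) (h : Nonempty (G ≃* G')) :
    ∃ (t : G') (Q N M : Subgroup (Subgroup.centralizer ({t} : Set G'))), Hyp t Q N M := by
  obtain ⟨e⟩ := h
  exact ⟨_, _, _, _, transport e H⟩

/-- **Every group isomorphic to J4 satisfies the hypotheses of S1670.** -/
theorem exists_hyp_of_iso {K : Type*} [Group K] (h : Cfsg.Spor.IsoJ4 K) :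
    ∃ (t : K) (Q N M : Subgroup (Subgroup.centralizer ({t} : Set K))), Hyp t Q N M := by
  obtain ⟨e⟩ := h
  obtain ⟨Q, N, M, H⟩ := HypR.exists_hyp
  have hfin : Finite Cfsg.Agent.J4M.Base.R := inferInstance
  have hs : IsSimpleGroup Cfsg.Agent.J4M.Base.R := Cfsg.Agent.J4M.SimpleR.isJ4_R.1
  obtain ⟨f, hf⟩ := Cfsg.Agent.J4Type.Top.main H
  exact exists_transport H ⟨(MulEquiv.ofBijective f hf).symm.trans e.symm⟩

end Cfsg.Agent.KFacts.J4.Transport
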