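import Cfsg.Agent.J4Type.Top
import Cfsg.Agent.J4Type.Aut22
import Cfsg.Agent.J4Type.PreHexA
import Cfsg.Agent.KFacts.J4.Transport

/-!
# The fourth Janko group: the structure `Compl` and the subgroup `P = C_K(z)^∞`

`exists_compl`: a group isomorphic to `J4` has the whole structure `Compl` of the proof of S1670.
`MM C`: the subgroup `2^{1+12}.3.M22` of index 2 in `C_K(z)`; it is perfect.
-/

set_option autoImplicit false

namespace Cfsg.Agent.KFacts.J4.Base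

open Cfsg Cfsg.Agent.J4Type
open scoped commutatorElement Pointwise

variable {K : Type*} [Group K]

/-- the subgroup `2^{1+12}.3.M22` of `C_K(z)` -/
def MM (C : Cent K) : Subgroup K where
  carrier := {c | ∃ h : c ∈ Subgroup.centralizer ({C.z} : Set K), C.P ⟨c, h⟩ none = none}
  one_mem' := ⟨Subgroup.one_mem _, by
    show C.P 1 none = none
    rw [map_one]; rfl⟩
  mul_mem' := by
    rintro a b ⟨ha, ha'⟩ ⟨hb, hb'⟩
    refine ⟨Subgroup.mul_mem _ ha hb, ?_⟩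
    show C.P (⟨a, ha⟩ * ⟨b, hb⟩) none = none
    rw [map_mul, Equiv.Perm.mul_apply, hb', ha']
  inv_mem' := by
    rintro a ⟨ha, ha'⟩
    refine ⟨Subgroup.inv_mem _ ha, ?_⟩
    show C.P (⟨a, ha⟩⁻¹) none = none
    rw [map_inv, Equiv.Perm.inv_eq_iff_eq, ha']

theorem mem_MM {C : Cent K} {c : K} :
    c ∈ MM C ↔ ∃ h : c ∈ Subgroup.centralizer ({C.z} : Set K), C.P ⟨c, h⟩ none = none := Iff.rfl

theorem comm_z {C : Cent K} {c : K} (hc : c ∈ MM C) : c * C.z = C.z * c := by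
  obtain ⟨h, -⟩ := hc
  exact Subgroup.mem_centralizer_singleton_iff.1 h

theorem MM_le (C : Cent K) : MM C ≤ Subgroup.centralizer ({C.z} : Set K) := fun _ hc => hc.1

/-- `P c` exchanges or fixes the two base points -/
theorem P_none (C : Cent K) (c : Subgroup.centralizer ({C.z} : Set K)) :
    C.P c none = none ∨ C.P c none = some 0 := by
  have h1 : C.P c ∈ M22d := by rw [← C.P_range]; exact ⟨c, rfl⟩
  have h2 : C.P c • base = base := h1.2
  have h3 : C.P c none ∈ C.P c • base := Finset.smul_mem_smul_finset (by simp [base])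
  rw [h2, base] at h3
  simpa using h3

theorem Q_le_MM (C : Cent K) : C.Q ≤ MM C := by
  intro q hq
  have h1 := C.Q_le hq
  refine ⟨h1, ?_⟩
  have h2 : C.P ⟨q, h1⟩ = 1 := (C.P_ker _).2 ⟨q, hq, 0, by simp⟩
  rw [h2]; rfl

theorem z_mem_MM (C : Cent K) : C.z ∈ MM C := Q_le_MM C C.z_mem_Q

theorem rho_mem_cent (C : Cent K) : C.ρ ∈ Subgroup.centralizer ({C.z} : Set K) :=
  Subgroup.mem_centralizer_singleton_iff.2 C.ρ_comm

theorem rho_mem_MM (C : Cent K) : C.ρ ∈ MM C := by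
  refine ⟨rho_mem_cent C, ?_⟩
  have h2 : C.P ⟨C.ρ, rho_mem_cent C⟩ = 1 := (C.P_ker _).2 ⟨1, C.Q.one_mem, 1, by simp⟩
  rw [h2]; rfl

/-- two elements of `C_K(z)` outside `MM` differ by an element of `MM` -/
theorem mul_mem_of_not_mem {C : Cent K} {a b : K} (ha : a * C.z = C.z * a) (hb : b * C.z = C.z * b)
    (ha' : a ∉ MM C) (hb' : b ∉ MM C) : a * b ∈ MM C := by
  have hac := Subgroup.mem_centralizer_singleton_iff.2 ha
  have hbc := Subgroup.mem_centralizer_singleton_iff.2 hb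
  have h1 : C.P ⟨a, hac⟩ none = some 0 := (P_none C _).resolve_left fun h => ha' ⟨hac, h⟩
  have h2 : C.P ⟨b, hbc⟩ none = some 0 := (P_none C _).resolve_left fun h => hb' ⟨hbc, h⟩
  refine ⟨Subgroup.mul_mem _ hac hbc, ?_⟩
  show C.P (⟨a, hac⟩ * ⟨b, hbc⟩) none = none
  rw [map_mul, Equiv.Perm.mul_apply, h2]
  have h3 : C.P ⟨a, hac⟩ ∈ M22d := by rw [← C.P_range]; exact ⟨_, rfl⟩
  have h4 : C.P ⟨a, hac⟩ • base = base := h3.2
  have h5 : C.P ⟨a, hac⟩ (some 0) ∈ C.P ⟨a, hac⟩ • base :=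
    Finset.smul_mem_smul_finset (by simp [base])
  rw [h4, base] at h5
  have h6 : C.P ⟨a, hac⟩ (some 0) = none ∨ C.P ⟨a, hac⟩ (some 0) = some 0 := by simpa using h5
  rcases h6 with h6 | h6
  · exact h6
  · exfalso
    rw [← h6] at h1
    have := (C.P ⟨a, hac⟩).injective h1
    exact absurd this (by simp)

theorem conj_mem {C : Cent K} {a c : K} (ha : a * C.z = C.z * a) (hc : c ∈ MM C) : a * c * a⁻¹ ∈ MM C := by
  by_cases h : a ∈ MM C
  · exact (MM C).mul_mem ((MM C).mul_mem h hc) ((MM C).inv_mem h)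
  · have hca : a * c ∉ MM C := fun h1 => h (by
      have := (MM C).mul_mem h1 ((MM C).inv_mem hc)
      rwa [mul_inv_cancel_right] at this)
    have hi : a⁻¹ * C.z = C.z * a⁻¹ := by
      rw [inv_mul_eq_iff_eq_mul, ← mul_assoc, ha, mul_inv_cancel_right]
    refine mul_mem_of_not_mem ?_ hi hca fun h1 => h (by simpa using (MM C).inv_mem h1)
    rw [mul_assoc, comm_z hc, ← mul_assoc, ha, mul_assoc]

/-- elements of odd order of `C_K(z)` lie in `MM` -/
theorem mem_of_odd {C : Cent K} {a : K} (ha : a * C.z = C.z * a) {n : ℕ} (hn : Odd n) (h1 : a ^ n = 1) :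
    a ∈ MM C := by
  by_contra hcon
  obtain ⟨k, rfl⟩ := hn
  have h2 := mul_mem_of_not_mem ha ha hcon hcon
  apply hcon
  have h3 : a ^ (2 * k) ∈ MM C := by
    rw [pow_mul, pow_two]
    exact (MM C).pow_mem h2 k
  rw [pow_succ] at h1
  have h4 : a = (a ^ (2 * k))⁻¹ := eq_inv_of_mul_eq_one_right h1
  rw [h4]
  exact (MM C).inv_mem h3

/-- both base points -/
theorem P_cases (C : Cent K) (c : Subgroup.centralizer ({C.z} : Set K)) :
    (C.P c none = none ∧ C.P c (some 0) = some 0) ∨ (C.P c none = some 0 ∧ C.P c (some 0) = none) := by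
  have h1 : C.P c ∈ M22d := by rw [← C.P_range]; exact ⟨c, rfl⟩
  exact ((Cfsg.Agent.J4Type.Aut22.mem_D22_iff _).1 h1).2

theorem exists_swap : ∃ g ∈ M22d, g none ≠ none := by
  have h5 : MulAction.IsMultiplyPretransitive M24 GolayPt 5 := Cfsg.Agent.S0366.result
  have h2 : MulAction.IsMultiplyPretransitive M24 GolayPt 2 :=
    MulAction.isMultiplyPretransitive_of_le (n := 5) (by norm_num) (by simp [Cfsg.GolayPt])
  rw [MulAction.is_two_pretransitive_iff] at h2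
  obtain ⟨g, h3, h4⟩ := h2 (a := none) (b := some 0) (c := some 0) (d := none) (by simp) (by simp)
  refine ⟨g, (Cfsg.Agent.J4Type.Aut22.mem_D22_iff _).2 ⟨g.2, Or.inr ⟨h3, h4⟩⟩, ?_⟩
  have h5 : (g : Equiv.Perm GolayPt) none = some 0 := h3
  rw [h5]
  simp

/-- commutators of elements of `C_K(z)` lie in `MM` -/
theorem comm_mem (C : Cent K) (a b : Subgroup.centralizer ({C.z} : Set K)) :
    ((a * b * a⁻¹ * b⁻¹ : Subgroup.centralizer ({C.z} : Set K)) : K) ∈ MM C := by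
  refine ⟨(a * b * a⁻¹ * b⁻¹).2, ?_⟩
  show C.P (a * b * a⁻¹ * b⁻¹) none = none
  have hinv : ∀ (c : Subgroup.centralizer ({C.z} : Set K)) (x y : GolayPt), C.P c x = y → C.P c⁻¹ y = x := by
    rintro c x y rfl
    rw [map_inv]; exact Equiv.symm_apply_apply _ _
  rw [map_mul, map_mul, map_mul]
  simp only [Equiv.Perm.mul_apply]
  rcases P_cases C a with ⟨a1, a2⟩ | ⟨a1, a2⟩ <;> rcases P_cases C b with ⟨b1, b2⟩ | ⟨b1, b2⟩
  · rw [hinv b _ _ b1, hinv a _ _ a1, b1, a1]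
  · rw [hinv b _ _ b2, hinv a _ _ a2, b2, a1]
  · rw [hinv b _ _ b1, hinv a _ _ a2, b2, a2]
  · rw [hinv b _ _ b2, hinv a _ _ a1, b1, a2]

/-! ### Existence -/

/-- **The whole structure from the hypotheses of S1670.** -/
theorem exists_compl_of_hyp [Finite K] [IsSimpleGroup K] {t : K}
    {Q N M : Subgroup (Subgroup.centralizer ({t} : Set K))}
    (H : Hyp t Q N M) : ∃ C : J4Type.Compl K, C.z = t ∧
      C.Q = Q.map (Subgroup.centralizer ({t} : Set K)).subtype ∧ Nonempty (CentCoords C.toCent) := by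
  obtain ⟨P, hP⟩ := H.exists_isP
  obtain ⟨r, hr, hrQ, hr3, K₀, -⟩ := CoordRels.exists_w H hP
  obtain ⟨H', K', hz, hQ, hom, h0, h1⟩ := HexCoord.exists_hex K₀ (H.P_outer' hP hr hrQ hr3)
  obtain ⟨V⟩ := VCoordOf.exists_vcoord H' K' h0 h1 hom
  obtain ⟨F, rfl⟩ := PartC.exists_frame H' V H'.toCent.zstar
  obtain ⟨C, rfl⟩ := ComplExists.exists_compl F
  exact ⟨C, hz, hQ, ⟨K'⟩⟩

/-- `MM C` is the subgroup `M` of `Hyp` -/
theorem MM_eq [Finite K] {t : K} {Q N M : Subgroup (Subgroup.centralizer ({t} : Set K))}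
    (H : Hyp t Q N M) {C : Cent K} (hz : C.z = t)
    (hQ : C.Q = Q.map (Subgroup.centralizer ({t} : Set K)).subtype) :
    MM C = M.map (Subgroup.centralizer ({t} : Set K)).subtype := by
  subst hz
  -- `M ≤ MM`
  have hle : ∀ m ∈ M, (m : K) ∈ MM C := by
    intro m hm
    have h1 : (⁅M, M⁆ ⊔ Q : Subgroup _) ≤ (MM C).comap (Subgroup.centralizer ({C.z} : Set K)).subtype := by
      rw [sup_le_iff, Subgroup.commutator_le]
      refine ⟨fun a _ b _ => ?_, fun q hq => ?_⟩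
      · rw [commutatorElement_def]
        exact comm_mem C a b
      · apply Q_le_MM
        rw [hQ]
        exact ⟨q, hq, rfl⟩
    exact h1 (H.perf hm)
  -- `MM` is proper
  obtain ⟨g, hg, hg'⟩ := exists_swap
  rw [← C.P_range] at hg
  obtain ⟨c, rfl⟩ := hg
  have hcM : c ∉ M := fun h => hg' (by
    obtain ⟨_, h1⟩ := hle c h
    exact h1)
  apply le_antisymm
  · intro x hx
    obtain ⟨hxc, hx2⟩ := hx
    by_cases hxM : (⟨x, hxc⟩ : Subgroup.centralizer ({C.z} : Set K)) ∈ M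
    · exact ⟨_, hxM, rfl⟩
    · exfalso
      have h1 : ⟨x, hxc⟩ * c ∈ M := (Subgroup.mul_mem_iff_of_index_two H.index_M).2
        ⟨fun h => absurd h hxM, fun h => absurd h hcM⟩
      obtain ⟨_, h2⟩ := hle _ h1
      have h3 : C.P (⟨x, hxc⟩ * c) none = none := h2
      rw [map_mul, Equiv.Perm.mul_apply] at h3
      have h4 : C.P ⟨x, hxc⟩ (C.P c none) = C.P ⟨x, hxc⟩ none := h3.trans hx2.symm
      exact hg' ((C.P ⟨x, hxc⟩).injective h4)
  · rintro _ ⟨m, hm, rfl⟩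
    exact hle m hm

/-! ### Perfectness -/

open Cfsg.Agent.J4Type.PreHexA Cfsg.Agent.J4Type.PreHexLin

/-- every element of `Q` is a commutator with `ρ`, up to `z` -/
theorem exists_comm_rho {C : Cent K} (D : CentCoords C) {q : K} (hq : q ∈ C.Q) :
    ∃ q' ∈ C.Q, q = C.ρ * q' * C.ρ⁻¹ * q'⁻¹ ∨ q = C.z * (C.ρ * q' * C.ρ⁻¹ * q'⁻¹) := by
  have h1 : D.om + 1 ≠ 0 := by
    have h2 := D.om_ne_one
    generalize D.om = x at h2
    revert x
    decide
  obtain ⟨q', hq', h2⟩ := D.co_surj (scm (D.om + 1)⁻¹ (D.co q))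
  refine ⟨q', hq', ?_⟩
  have hm : C.ρ * q' * C.ρ⁻¹ ∈ C.Q := C.Q_conj C.ρ C.ρ_comm q' hq'
  rw [← co_eq_iff D hq (C.Q.mul_mem hm (C.Q.inv_mem hq')), D.co_mul _ hm _ (C.Q.inv_mem hq'),
    co_inv D hq', D.co_rho q' hq', h2]
  have h3 : ∀ v : V6, scm D.om v + v = scm (D.om + 1) v := by
    intro v
    refine Prod.ext (funext fun k => ?_) (funext fun k => ?_)
    · show D.om * v.1 k + v.1 k = (D.om + 1) * v.1 k
      rw [add_mul, one_mul]
    · show D.om * v.2 k + v.2 k = (D.om + 1) * v.2 k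
      rw [add_mul, one_mul]
  rw [h3, scm_scm, mul_inv_cancel₀ h1, scm_one]

/-- **`MM` is perfect.** -/
theorem perfect [Finite K] {C : Cent K} (D : CentCoords C) (hle : MM C ≤ ⁅MM C, MM C⁆ ⊔ C.Q) :
    ⁅MM C, MM C⁆ = MM C := by
  have hDM : ⁅MM C, MM C⁆ ≤ MM C := by
    rw [Subgroup.commutator_le]
    intro a ha b hb
    rw [commutatorElement_def]
    exact (MM C).mul_mem ((MM C).mul_mem ((MM C).mul_mem ha hb) ((MM C).inv_mem ha)) ((MM C).inv_mem hb)
  have hn : ∀ x ∈ MM C, ∀ d ∈ ⁅MM C, MM C⁆, x * d * x⁻¹ ∈ ⁅MM C, MM C⁆ := by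
    intro x hx d hd
    have h1 : ⁅x, d⁆ ∈ ⁅MM C, MM C⁆ := Subgroup.commutator_mem_commutator hx (hDM hd)
    have h2 := Subgroup.mul_mem _ h1 hd
    rw [commutatorElement_def] at h2
    have h3 : x * d * x⁻¹ * d⁻¹ * d = x * d * x⁻¹ := by group
    rwa [h3] at h2
  have hcomm : ∀ a ∈ MM C, ∀ b ∈ MM C, a * b * a⁻¹ * b⁻¹ ∈ ⁅MM C, MM C⁆ := fun a ha b hb =>
    Subgroup.commutator_mem_commutator ha hb
  -- `z ∈ MM'`
  have hz : C.z ∈ ⁅MM C, MM C⁆ := by
    by_contra hz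
    have h1 : ∀ a ∈ C.Q, ∀ b ∈ C.Q, a * b = b * a := by
      intro a ha b hb
      rcases C.Q_comm a ha b hb with h | h
      · exact h
      · exfalso
        apply hz
        have h2 := hcomm a (Q_le_MM C ha) b (Q_le_MM C hb)
        rw [h] at h2
        have h3 : C.z * (b * a) * a⁻¹ * b⁻¹ = C.z := by group
        rwa [h3] at h2
    have h2 : ∀ a ∈ C.Q, a = 1 ∨ a = C.z := fun a ha => C.Q_cent a (h1 a ha)
    have h3 : (C.Q : Set K) ⊆ {1, C.z} := fun a ha => h2 a ha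
    have h4 := Set.ncard_le_ncard h3 (Set.toFinite _)
    have h5 : (C.Q : Set K).ncard = 2 ^ 13 := C.Q_card
    have h6 := Set.ncard_insert_le (1 : K) {C.z}
    rw [Set.ncard_singleton] at h6
    omega
  -- `ρ ∈ MM'`
  have hρ : C.ρ ∈ ⁅MM C, MM C⁆ := by
    have hQn : ∀ x ∈ ⁅MM C, MM C⁆, ∀ q ∈ C.Q, x * q * x⁻¹ ∈ C.Q := fun x hx q hq =>
      C.Q_conj x (comm_z (hDM hx)) q hq
    have h1 := hle (rho_mem_MM C)
    -- `ρ = d q`
    have h2 : ∃ d ∈ ⁅MM C, MM C⁆, ∃ q ∈ C.Q, C.ρ = d * q := by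
      have h3 : ∀ x ∈ (⁅MM C, MM C⁆ ⊔ C.Q : Subgroup K), ∃ d ∈ ⁅MM C, MM C⁆, ∃ q ∈ C.Q, x = d * q := by
        intro x hx
        let S : Subgroup K :=
          { carrier := {x | ∃ d ∈ ⁅MM C, MM C⁆, ∃ q ∈ C.Q, x = d * q}
            one_mem' := ⟨1, Subgroup.one_mem _, 1, C.Q.one_mem, (one_mul 1).symm⟩
            mul_mem' := by
              rintro x y ⟨d, hd, q, hq, rfl⟩ ⟨d', hd', q', hq', rfl⟩
              refine ⟨d * (q * d' * q⁻¹), Subgroup.mul_mem _ hd (hn q (Q_le_MM C hq) d' hd'), q * q',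
                C.Q.mul_mem hq hq', by group⟩
            inv_mem' := by
              rintro x ⟨d, hd, q, hq, rfl⟩
              refine ⟨q⁻¹ * d⁻¹ * q⁻¹⁻¹, hn _ (Q_le_MM C (C.Q.inv_mem hq)) _ (Subgroup.inv_mem _ hd), q⁻¹,
                C.Q.inv_mem hq, by group⟩ }
        have hS : (⁅MM C, MM C⁆ ⊔ C.Q : Subgroup K) ≤ S := sup_le
          (fun x hx => ⟨x, hx, 1, C.Q.one_mem, (mul_one x).symm⟩)
          (fun x hx => ⟨1, Subgroup.one_mem _, x, hx, (one_mul x).symm⟩)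
        exact hS hx
      exact h3 _ h1
    obtain ⟨d, hd, q, hq, h3⟩ := h2
    -- `ρ ≡ q`, `ρ⁴ ≡ q⁴ = 1`
    have h4 : ∀ n : ℕ, C.ρ ^ n * (q ^ n)⁻¹ ∈ ⁅MM C, MM C⁆ := by
      intro n
      induction n with
      | zero => rw [pow_zero, pow_zero, inv_one, mul_one]; exact Subgroup.one_mem _
      | succ n ih =>
        have h5 : C.ρ ^ (n + 1) * (q ^ (n + 1))⁻¹ =
            C.ρ ^ n * (q ^ n)⁻¹ * (q ^ n * d * (q ^ n)⁻¹) := by
          rw [pow_succ, pow_succ]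
          nth_rw 2 [h3]
          group
        rw [h5]
        exact Subgroup.mul_mem _ ih (hn _ ((MM C).pow_mem (Q_le_MM C hq) n) d hd)
    have h5 := h4 4
    have h6 : q ^ 4 = 1 := by
      have h7 : q ^ 4 = (q * q) * (q * q) := by
        rw [show (4 : ℕ) = 1 + 1 + 1 + 1 by norm_num, pow_add, pow_add, pow_add, pow_one]; group
      rw [h7]
      rcases C.Q_sq q hq with h8 | h8
      · rw [h8, one_mul]
      · rw [h8]; exact zz C
    have h7 : C.ρ ^ 4 = C.ρ := by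
      have h8 : C.ρ ^ 3 = 1 := by
        have := pow_orderOf_eq_one C.ρ
        rwa [C.ρ_order] at this
      rw [show (4 : ℕ) = 3 + 1 by norm_num, pow_add, h8, one_mul, pow_one]
    rw [h6, h7, inv_one, mul_one] at h5
    exact h5
  -- `Q ≤ MM'`
  have hQ : C.Q ≤ ⁅MM C, MM C⁆ := by
    intro q hq
    obtain ⟨q', hq', h | h⟩ := exists_comm_rho D hq
    · rw [h]
      exact hcomm _ (rho_mem_MM C) _ (Q_le_MM C hq')
    · rw [h]
      exact Subgroup.mul_mem _ hz (hcomm _ (rho_mem_MM C) _ (Q_le_MM C hq'))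
  exact le_antisymm hDM (hle.trans (sup_le le_rfl hQ))

/-- the data for `J4` -/
structure Full (K : Type*) [Group K] where
  C : J4Type.Compl K
  D : CentCoords C.toCent
  perf : ⁅MM C.toCent, MM C.toCent⁆ = MM C.toCent

theorem exists_full_of_hyp [Finite K] [IsSimpleGroup K] {t : K}
    {Q N M : Subgroup (Subgroup.centralizer ({t} : Set K))} (H : Hyp t Q N M) : Nonempty (Full K) := by
  obtain ⟨C, hz, hQ, ⟨D⟩⟩ := exists_compl_of_hyp H
  refine ⟨⟨C, D, perfect D ?_⟩⟩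
  rw [MM_eq H hz hQ, hQ, ← Subgroup.map_commutator, ← Subgroup.map_sup]
  exact Subgroup.map_mono H.perf

theorem full_of_equiv {A : Type*} [Group A] [Finite A] (hs : IsSimpleGroup A) {t : A}
    {Q N M : Subgroup (Subgroup.centralizer ({t} : Set A))} (H : Hyp t Q N M)
    {K : Type*} [Group K] (e : A ≃* K) : Finite K ∧ IsSimpleGroup K ∧ Nonempty (Full K) := by
  have hfin' : Finite K := Finite.of_equiv _ e.toEquiv
  have hs' : IsSimpleGroup K := e.symm.isSimpleGroup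
  obtain ⟨t, Q, N, M, H'⟩ := Transport.exists_transport H ⟨e⟩
  exact ⟨hfin', hs', exists_full_of_hyp H'⟩

/-- **A group isomorphic to `J4` has all the data.** -/
theorem exists_full {K : Type*} [Group K] (h : Cfsg.Spor.IsoJ4 K) :
    Finite K ∧ IsSimpleGroup K ∧ Nonempty (Full K) := by
  obtain ⟨e⟩ := h
  obtain ⟨Q, N, M, H⟩ := HypR.exists_hyp
  have hfin : Finite Cfsg.Agent.J4M.Base.R := inferInstance
  have hs : IsSimpleGroup Cfsg.Agent.J4M.Base.R := Cfsg.Agent.J4M.SimpleR.isJ4_R.1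
  obtain ⟨f, hf⟩ := Cfsg.Agent.J4Type.Top.main H
  exact full_of_equiv hs H ((MulEquiv.ofBijective f hf).symm.trans e.symm)

end Cfsg.Agent.KFacts.J4.Base
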