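import Cfsg.Agent.OddHalf.D8.Sheet
import Cfsg.Agent.J4Type.FusionCent
import Cfsg.Agent.J4Type.FinalGen
import Cfsg.Agent.J4.M24Hom
import Cfsg.Agent.SporadicA.MathieuRecog

/-!
# The sheet of type (E) for J4: the easy fields (helper222)

`C : Compl K`, `z = C.z`, `P = FusionCent.M C` (elements `c` of `C(z)` with `P c none = none`), `R = C.Q`.
-/

set_option autoImplicit false

open scoped Pointwise commutatorElement

namespace Cfsg.Agent.KFacts.J4.Easy

open Cfsg Cfsg.Agent.J4Type Cfsg.Agent.J4Type.FusionCent Cfsg.Agent.OddHalf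

variable {K : Type*} [Group K]

section Cent

variable (C : Cent K)

theorem zz : C.z * C.z = 1 := (large C).z_sq

theorem z1 : C.z ≠ 1 := (large C).z_ne

theorem cen : ∀ x ∈ M C, x * C.z = C.z * x := by
  intro x hx
  obtain ⟨h, -⟩ := (mem_M C).1 hx
  exact (mem_cent C).1 h

theorem Q2 : IsPGroup 2 C.Q := IsPGroup.of_card C.Q_card

theorem RP : C.Q ≤ M C := by
  intro q hq
  refine (mem_M C).2 ⟨C.Q_le hq, ?_⟩
  rw [P_of_mem_Q C ⟨q, C.Q_le hq⟩ hq]
  rfl

theorem Rn : ∀ x ∈ M C, ∀ r ∈ C.Q, x * r * x⁻¹ ∈ C.Q :=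
  fun x hx r hr => C.Q_conj x (cen C x hx) r hr

theorem cR : ∀ x ∈ M C, (∀ r ∈ C.Q, x * r = r * x) → x ∈ C.Q := by
  intro x _ h
  rcases C.Q_cent x h with h | h
  · rw [h]; exact C.Q.one_mem
  · rw [h]; exact C.z_mem_Q

theorem Rna : ∃ a ∈ C.Q, ∃ b ∈ C.Q, a * b ≠ b * a := by
  by_contra hcon
  push Not at hcon
  have h1 : ∀ x : C.Q, (x : K) = 1 ∨ (x : K) = C.z := fun x =>
    C.Q_cent x fun q hq => hcon x x.2 q hq
  have h2 : Nat.card C.Q ≤ Nat.card Bool := by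
    classical
    apply Nat.card_le_card_of_injective (fun x : C.Q => decide ((x : K) = 1))
    intro x y hxy
    have h3 : ((x : K) = 1) ↔ ((y : K) = 1) := by
      have := congrArg (· = true) hxy
      simpa using this
    rcases h1 x with hx | hx
    · exact Subtype.ext (hx.trans (h3.1 hx).symm)
    · rcases h1 y with hy | hy
      · exact Subtype.ext ((h3.2 hy).trans hy.symm)
      · exact Subtype.ext (hx.trans hy.symm)
  rw [C.Q_card, Nat.card_eq_fintype_card, Fintype.card_bool] at h2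
  norm_num at h2

theorem syl [Finite K] : ∃ S : Sylow 2 K, C.z ∈ S ∧ (∀ x ∈ S, x * C.z = C.z * x) ∧
    ∀ y ∈ S, (∀ x ∈ S, x * y = y * x) → y = 1 ∨ y = C.z := by
  have : Fact (Nat.Prime 2) := ⟨Nat.prime_two⟩
  obtain ⟨S, hS⟩ := (Q2 C).exists_le_sylow
  have hZ : ∀ y ∈ S, (∀ x ∈ S, x * y = y * x) → y = 1 ∨ y = C.z := by
    intro y _ hy
    exact C.Q_cent y fun q hq => (hy q (hS hq)).symm
  have hzS : C.z ∈ S := hS C.z_mem_Q
  refine ⟨S, hzS, ?_, hZ⟩
  have hnt : Nontrivial S := ⟨⟨⟨C.z, hzS⟩, 1, fun h => z1 C (congrArg Subtype.val h)⟩⟩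
  have := S.isPGroup'.center_nontrivial
  obtain ⟨⟨y, hy⟩, hy1⟩ := exists_ne (1 : Subgroup.center S)
  have hyc : ∀ x ∈ S, x * (y : K) = y * x := by
    intro x hx
    exact congrArg Subtype.val (Subgroup.mem_center_iff.1 hy ⟨x, hx⟩)
  rcases hZ y y.2 hyc with h | h
  · exact absurd (Subtype.ext (Subtype.ext h)) hy1
  · intro x hx
    rw [← h]
    exact hyc x hx

/-- `P c` permutes the two base points -/
theorem P_cases (c : Subgroup.centralizer ({C.z} : Set K)) :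
    (C.P c none = none ∧ C.P c (some 0) = some 0) ∨ (C.P c none = some 0 ∧ C.P c (some 0) = none) :=
  (mem_M22d (P_mem C c)).2

theorem comm_mem {a b : K} (ha : a ∈ Subgroup.centralizer ({C.z} : Set K))
    (hb : b ∈ Subgroup.centralizer ({C.z} : Set K)) : ⁅a, b⁆ ∈ M C := by
  let a' : Subgroup.centralizer ({C.z} : Set K) := ⟨a, ha⟩
  let b' : Subgroup.centralizer ({C.z} : Set K) := ⟨b, hb⟩
  have hinv : ∀ c : Subgroup.centralizer ({C.z} : Set K), ∀ p q : GolayPt, C.P c p = q →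
      C.P c⁻¹ q = p := by
    intro c p q h
    rw [map_inv, ← h]
    exact Equiv.symm_apply_apply _ _
  refine (mem_M C).2 ⟨(⁅a', b'⁆ : Subgroup.centralizer ({C.z} : Set K)).2, ?_⟩
  change C.P (a' * b' * a'⁻¹ * b'⁻¹) none = none
  rw [map_mul, map_mul, map_mul, Equiv.Perm.mul_apply, Equiv.Perm.mul_apply, Equiv.Perm.mul_apply]
  rcases P_cases C a' with ⟨h1, h2⟩ | ⟨h1, h2⟩ <;> rcases P_cases C b' with ⟨h3, h4⟩ | ⟨h3, h4⟩
  · rw [hinv b' _ _ h3, hinv a' _ _ h1, h3, h1]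
  · rw [hinv b' _ _ h4, hinv a' _ _ h2, h4, h1]
  · rw [hinv b' _ _ h3, hinv a' _ _ h2, h4, h2]
  · rw [hinv b' _ _ h4, hinv a' _ _ h1, h3, h2]

theorem der : ∃ m, TR.dser m (Subgroup.centralizer ({C.z} : Set K)) ≤ M C := by
  refine ⟨1, ?_⟩
  rw [TR.dser_succ, TR.dser_zero, Subgroup.commutator_le]
  exact fun a ha b hb => comm_mem C ha hb

theorem card_M22_ne (k : ℕ) : Nat.card Cfsg.Spor.M22 ≠ 2 ^ k := by
  rw [Cfsg.Agent.SporadicA.MathieuRecog.card_M22]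
  intro h
  have h1 : 3 ∣ 2 ^ k := by rw [← h]; norm_num
  have h2 := (Nat.Prime.dvd_of_dvd_pow Nat.prime_three h1)
  norm_num at h2

theorem Rmax [Finite K] : ∀ B : Subgroup K, B ≤ M C → IsPGroup 2 B →
    (∀ x ∈ M C, ∀ b ∈ B, x * b * x⁻¹ ∈ B) → B ≤ C.Q := by
  intro B hB h2 hn
  have mem22 : ∀ (c : Subgroup.centralizer ({C.z} : Set K)), (c : K) ∈ M C → C.P c ∈ Cfsg.Spor.M22 := by
    intro c hc
    obtain ⟨h, h1⟩ := (mem_M C).1 hc
    have h1' : C.P c none = none := h1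
    rw [Cfsg.Agent.SporadicA.MathieuRecog.mem_M22_iff]
    refine ⟨(P_mem C c).1, h1', ?_⟩
    rcases P_cases C c with ⟨-, h⟩ | ⟨h, -⟩
    · exact h
    · rw [h1'] at h
      exact absurd h (by simp)
  -- the homomorphism of `B` to `M22`
  let f : B →* Cfsg.Spor.M22 :=
    { toFun := fun b => ⟨C.P ⟨b, (mem_cent C).2 (cen C b (hB b.2))⟩, mem22 _ (hB b.2)⟩
      map_one' := Subtype.ext (map_one C.P)
      map_mul' := fun a b => Subtype.ext (map_mul C.P ⟨a, _⟩ ⟨b, _⟩) }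
  have hf : ∀ b : B, ((f b : Cfsg.Spor.M22) : Equiv.Perm GolayPt) =
      C.P ⟨b, (mem_cent C).2 (cen C b (hB b.2))⟩ := fun _ => rfl
  have hN : f.range.Normal := by
    constructor
    rintro _ ⟨b, rfl⟩ m
    have hm := (Cfsg.Agent.SporadicA.MathieuRecog.mem_M22_iff _).1 m.2
    have hmr : (m : Equiv.Perm GolayPt) ∈ C.P.range := by
      rw [C.P_range]
      refine ⟨hm.1, ?_⟩
      change (m : Equiv.Perm GolayPt) • base = base
      rw [base, Finset.smul_finset_insert, Finset.smul_finset_singleton]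
      change ({(m : Equiv.Perm GolayPt) none, (m : Equiv.Perm GolayPt) (some 0)} : Finset GolayPt) = _
      rw [hm.2.1, hm.2.2]
    obtain ⟨c, hc⟩ := hmr
    have hcM : (c : K) ∈ M C := (mem_M C).2 ⟨c.2, by
      have : C.P ⟨(c : K), c.2⟩ = m := hc
      rw [this, hm.2.1]⟩
    refine ⟨⟨c * b * (c : K)⁻¹, hn c hcM b b.2⟩, Subtype.ext ?_⟩
    rw [hf]
    change C.P (c * ⟨b, (mem_cent C).2 (cen C b (hB b.2))⟩ * c⁻¹) = _
    rw [map_mul, map_mul, map_inv, hc]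
    rfl
  have hs := Cfsg.Agent.SporadicA.MathieuRecog.simple_M22
  rcases hN.eq_bot_or_eq_top with h | h
  · intro b hb
    have h1 : f ⟨b, hb⟩ = 1 := by
      have : f ⟨b, hb⟩ ∈ f.range := ⟨_, rfl⟩
      rwa [h, Subgroup.mem_bot] at this
    obtain ⟨k, hk⟩ := h2 ⟨b, hb⟩
    refine mem_Q_of_pow C ⟨b, (mem_cent C).2 (cen C b (hB hb))⟩ (congrArg Subtype.val h1) (n := 2 ^ k)
      (Nat.Coprime.pow_left _ (by norm_num)) ?_
    have h3 : b ^ 2 ^ k = 1 := congrArg Subtype.val hk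
    change b ^ 2 ^ k ∈ C.Q
    rw [h3]
    exact C.Q.one_mem
  · exfalso
    have h3 : IsPGroup 2 f.range := by
      rintro ⟨_, b, rfl⟩
      obtain ⟨k, hk⟩ := h2 b
      exact ⟨k, Subtype.ext (by
        change (f b) ^ 2 ^ k = 1
        rw [← map_pow, hk, map_one])⟩
    rw [h] at h3
    have hfin : Finite Cfsg.Spor.M22 := inferInstance
    obtain ⟨k, hk⟩ := IsPGroup.iff_card.1 h3
    rw [Nat.card_congr Subgroup.topEquiv.toEquiv] at hk
    exact card_M22_ne k hk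

end Cent

/-! ### The conjugating element -/

section WithCompl

variable (C : J4Type.Compl K)

theorem E_le_M : C.E hex0 ≤ M C.toCent := by
  intro a ha
  have h0 : IsHex hex0 := HexMax.hex0_isHex
  have hz : a ∈ Subgroup.centralizer ({C.z} : Set K) := by
    rw [Subgroup.mem_centralizer_singleton_iff]
    exact (C.E_elem _ h0).2 a ha _ (C.z_mem_E _ h0)
  refine (mem_M C.toCent).2 ⟨hz, ?_⟩
  exact ((C.E_map hex0 h0 (C.P ⟨a, hz⟩)).1 ⟨⟨a, hz⟩, ha, rfl⟩).2 none (by decide +kernel)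

/-- the element `k = φ(X)` -/
theorem exists_k : ∃ k : K, k * C.z * k⁻¹ ∈ M C.toCent ∧ k * C.z * k⁻¹ ∉ C.Q ∧
    k⁻¹ * C.z * k ∈ M C.toCent := by
  let X : M24 := ⟨Cfsg.Agent.J4.M24Hom.X, Cfsg.Agent.J4.M24Hom.X_mem⟩
  have hX : (X : Equiv.Perm GolayPt) * X = 1 := by
    apply Equiv.ext
    decide +kernel
  have hXi : C.φ X * C.φ X = 1 := by
    rw [← map_mul, ← map_one C.φ]
    exact congrArg C.φ (Subtype.ext hX)
  have hXi' : (C.φ X)⁻¹ = C.φ X := inv_eq_of_mul_eq_one_left hXi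
  have h1 : C.φ X * C.z * (C.φ X)⁻¹ = C.ε ((X : Equiv.Perm GolayPt) • tet 0) := by
    rw [← C.ε_tet 0, FinalGen.Compl.conj_ε C X (by rw [FinalGen.tet_card]; decide)]
  have hmem : C.φ X * C.z * (C.φ X)⁻¹ ∈ M C.toCent := by
    rw [h1]
    apply E_le_M
    apply C.ε_mem
    rw [Finset.card_smul_finset, FinalGen.tet_card]
    decide
  refine ⟨C.φ X, hmem, ?_, ?_⟩
  · rw [h1, C.A_iff _ (by rw [Finset.card_smul_finset, FinalGen.tet_card]; decide)]
    rintro (h | h)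
    · exact absurd h (by decide +kernel)
    · exact absurd h (by decide +kernel)
  · rw [hXi'] at hmem ⊢
    exact hmem

end WithCompl

end Cfsg.Agent.KFacts.J4.Easy
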