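import Cfsg.Agent.KFacts.J4.Gen
import Cfsg.Agent.KFacts.J4.Base
import Cfsg.Agent.J4Type.Top
import Cfsg.Agent.S1703

/-!
# J4: generation (helper615, for helper869's sheet of J4)

* `eq_top` : in a finite simple group with a `Compl`, a subgroup containing `φ(M24)` and `C_G(z)`
  is everything;
* `exists_pair` : two conjugates of `MM` which generate, and whose intersection has centraliser
  `{1, z, z', z z'}`.
-/

set_option autoImplicit false

open scoped Pointwise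

namespace Cfsg.Agent.KFacts.J4.GenTop

open Cfsg Cfsg.Agent.J4Type Cfsg.Agent.J4Type.FinalRel Cfsg.Agent.J4Type.FinalTau
open Cfsg.Agent.J4.M24Hom (XM YM)
open Cfsg.Agent.KFacts.J4.Base (MM mem_MM)

variable {G : Type*} [Group G]

/-- a subgroup containing `φ(M24)` and `C_G(z)` is everything -/
theorem eq_top [Finite G] [IsSimpleGroup G] (C : J4Type.Compl G)
    {H : Subgroup G} (hφ : ∀ g, C.φ g ∈ H)
    (hz : Subgroup.centralizer ({C.z} : Set G) ≤ H) : H = ⊤ := by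
  have hJ := Cfsg.Agent.S1703.result
  have hsimp := hJ.1
  have hfin : Finite Cfsg.Spor.J4 := Final.finite_J4 hJ
  obtain ⟨T, rfl⟩ := TauMain.exists_tau C
  have F := Tau.tauFam T (Rel2.relator2 T)
  have htz : T.t TM ∈ Subgroup.centralizer ({T.z} : Set G) := by
    obtain ⟨h1, -, -⟩ := T.t_hex1 TM TM_mem refTM
    rw [Subgroup.mem_centralizer_singleton_iff]
    exact (T.E_elem hex1 HexMax.hex1_isHex).2 _ h1 _ (T.z_mem_E hex1 HexMax.hex1_isHex)
  obtain ⟨f, hphi, ht, hs, -, -⟩ := F.exists_hom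
  have hinj : Function.Injective f := FinalEmb.TauFam.injective hs
  have hcard : Nat.card Cfsg.Spor.J4 = Nat.card G := by
    obtain ⟨f', hf'⟩ := Top.exists_bijective_of_tau T (Rel2.relator2 T)
    exact Nat.card_congr (Equiv.ofBijective f' hf')
  have hsurj : Function.Surjective f :=
    ((Nat.bijective_iff_injective_and_card f).2 ⟨hinj, hcard⟩).2
  have hT0 : T.t T0 ∈ H := FinalTrio.Fam.mem F.fam H hφ TM_mem (hz htz) T0_mem
  have hx : f Cfsg.Agent.J4.Rep112.x = T.φ XM := by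
    rw [← Cfsg.Agent.J4.Pres.phi_X, hphi]
  have hy : f Cfsg.Agent.J4.Rep112.y = T.φ YM := by
    rw [← Cfsg.Agent.J4.Pres.phi_Y, hphi]
  have h1 : (⊤ : Subgroup Cfsg.Spor.J4) ≤ H.comap f := by
    rw [← Cfsg.Agent.J4.Rep112.closure_eq_top, Subgroup.closure_le]
    rintro g (rfl | rfl | rfl)
    · show f _ ∈ H
      rw [hx]
      exact hφ _
    · show f _ ∈ H
      rw [hy]
      exact hφ _
    · show f _ ∈ H
      rw [ht]
      exact hT0
  rw [eq_top_iff]
  intro g _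
  obtain ⟨u, rfl⟩ := hsurj g
  exact h1 (Subgroup.mem_top u)

/-- **(C1), (C2)** in helper869's form -/
theorem exists_pair [Finite G] [IsSimpleGroup G] (C : J4Type.Compl G) : ∃ n : G,
    n * C.z * n⁻¹ ≠ C.z ∧ n * C.z * n⁻¹ ∈ MM C.toCent ∧
    (∀ s : G, (∀ c ∈ MM C.toCent, n⁻¹ * c * n ∈ MM C.toCent → s * c = c * s) →
      s = 1 ∨ s = C.z ∨ s = n * C.z * n⁻¹ ∨ s = C.z * (n * C.z * n⁻¹)) ∧
    Subgroup.closure ((MM C.toCent : Set G) ∪ {x | n⁻¹ * x * n ∈ MM C.toCent}) = ⊤ := by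
  have hMM : ∀ x : G, x ∈ MM C.toCent ↔
      ∃ hx : x ∈ Subgroup.centralizer ({C.z} : Set G), C.P ⟨x, hx⟩ none = none :=
    fun x => mem_MM
  refine ⟨C.φ Gen.eh, Gen.z'_ne C, ?_, fun s hs => Gen.C1 C hMM hs, ?_⟩
  · rw [Gen.conj_z]
    exact Gen.E_le C hMM (TauMask.c_mem C.toFrame (by decide +kernel))
  · obtain ⟨h3, h4⟩ := Gen.C2 C hMM
      (H := Subgroup.closure ((MM C.toCent : Set G) ∪ {x | (C.φ Gen.eh)⁻¹ * x * C.φ Gen.eh ∈ MM C.toCent}))
      (fun x hx => Subgroup.subset_closure (Or.inl hx))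
      (fun x hx => Subgroup.subset_closure (Or.inr (by
        show (C.φ Gen.eh)⁻¹ * (C.φ Gen.eh * x * (C.φ Gen.eh)⁻¹) * C.φ Gen.eh ∈ MM C.toCent
        have e : (C.φ Gen.eh)⁻¹ * (C.φ Gen.eh * x * (C.φ Gen.eh)⁻¹) * C.φ Gen.eh = x := by group
        rw [e]
        exact hx)))
    exact eq_top C h3 h4

end Cfsg.Agent.KFacts.J4.GenTop
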