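import Cfsg.Agent.KFacts.J4.AutP
import Cfsg.Agent.KFacts.J4.Easy
import Cfsg.Agent.KFacts.J4.GenTop
import Cfsg.Agent.OddHalf.D8.Rows

/-!
# The fourth Janko group: the sheet of type (E)

`inner`: every automorphism of `J4` is inner; `exists_sheet`: `SheetE z P R` with `P = 2^{1+12}.3.M22`, `R = 2^{1+12}`.
-/

set_option autoImplicit false

namespace Cfsg.Agent.KFacts.J4.SheetJ4

open Cfsg Cfsg.Agent.J4Type Cfsg.Agent.KFacts.J4.Base

variable {K : Type*} [Group K]

theorem M_eq (C : Cent K) : FusionCent.M C = MM C := by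
  ext x
  rw [FusionCent.mem_M, mem_MM]

theorem der (C : Cent K) :
    ∃ m, OddHalf.TR.dser m (Subgroup.centralizer ({C.z} : Set K)) ≤ MM C := by
  rw [← M_eq]
  exact Easy.der C

/-- an automorphism centralising `MM` is trivial or the conjugation by `z` -/
theorem cent_eq [Finite K] [IsSimpleGroup K] (C : J4Type.Compl K) (α : MulAut K)
    (hα : ∀ x ∈ MM C.toCent, α x = x) : α = 1 ∨ α = MulAut.conj C.z := by
  obtain ⟨n, -, -, h1, h2⟩ := GenTop.exists_pair C
  have hzz : C.z * C.z = 1 := Easy.zz C.toCent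
  have hzi : C.z⁻¹ = C.z := inv_eq_of_mul_eq_one_left hzz
  obtain ⟨t, ht⟩ : ∃ t, α n = t * n := ⟨α n * n⁻¹, by group⟩
  -- `α` on `n MM n⁻¹`
  have hx : ∀ x : K, n⁻¹ * x * n ∈ MM C.toCent → α x = t * x * t⁻¹ := by
    intro x hx
    have h3 := hα _ hx
    rw [map_mul, map_mul, map_inv, ht] at h3
    have h4 : α x = t * n * ((t * n)⁻¹ * α x * (t * n)) * (t * n)⁻¹ := by group
    rw [h4, h3]
    group
  have htc : ∀ c ∈ MM C.toCent, n⁻¹ * c * n ∈ MM C.toCent → t * c = c * t := by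
    intro c hc hc'
    have h3 := hx c hc'
    rw [hα c hc] at h3
    exact (eq_mul_inv_iff_mul_eq.1 h3).symm
  have hend : ∀ γ : MulAut K, (∀ x ∈ MM C.toCent, α x = γ x) →
      (∀ x, n⁻¹ * x * n ∈ MM C.toCent → α x = γ x) → α = γ := by
    intro γ hγ1 hγ2
    have h3 : Subgroup.closure ((MM C.toCent : Set K) ∪ {x | n⁻¹ * x * n ∈ MM C.toCent}) ≤
        (α.toMonoidHom).eqLocus γ.toMonoidHom := by
      rw [Subgroup.closure_le]
      rintro x (hx | hx)
      · exact hγ1 x hx
      · exact hγ2 x hx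
    rw [h2] at h3
    exact MulEquiv.ext fun x => h3 (Subgroup.mem_top x)
  have hz' : ∀ x : K, n⁻¹ * x * n ∈ MM C.toCent → (n * C.z * n⁻¹) * x = x * (n * C.z * n⁻¹) := by
    intro x hx
    have h3 := comm_z hx
    calc n * C.z * n⁻¹ * x = n * (C.z * (n⁻¹ * x * n)) * n⁻¹ := by group
      _ = n * (n⁻¹ * x * n * C.z) * n⁻¹ := by rw [h3]
      _ = x * (n * C.z * n⁻¹) := by group
  have hcz : ∀ x ∈ MM C.toCent, α x = MulAut.conj C.z x := by
    intro x hx
    rw [hα x hx, MulAut.conj_apply, ← comm_z hx, mul_inv_cancel_right]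
  rcases h1 t htc with h | h | h | h
  · left
    refine hend 1 hα fun x hx' => ?_
    rw [hx x hx', h]
    simp
  · right
    refine hend _ hcz fun x hx' => ?_
    rw [hx x hx', h, MulAut.conj_apply]
  · left
    refine hend 1 hα fun x hx' => ?_
    rw [hx x hx', h, hz' x hx', mul_inv_cancel_right]
    rfl
  · right
    refine hend _ hcz fun x hx' => ?_
    rw [hx x hx', h, MulAut.conj_apply, mul_inv_rev]
    calc C.z * (n * C.z * n⁻¹) * x * ((n * C.z * n⁻¹)⁻¹ * C.z⁻¹) =
        C.z * ((n * C.z * n⁻¹) * x * (n * C.z * n⁻¹)⁻¹) * C.z⁻¹ := by group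
      _ = C.z * x * C.z⁻¹ := by rw [hz' x hx', mul_inv_cancel_right]

/-- **automorphisms fixing `z` are inner** -/
theorem inner_of_fix [Finite K] [IsSimpleGroup K] (F : Full K) {α : MulAut K} (hα : α F.C.z = F.C.z) :
    ∃ p : K, p * F.C.z = F.C.z * p ∧ α = MulAut.conj p := by
  have hmap : ∀ β : MulAut K, β F.C.z = F.C.z → ∀ x ∈ MM F.C.toCent, β x ∈ MM F.C.toCent :=
    fun β hβ x hx => OddHalf.D8.Sheet.map_P F.perf (fun y hy => comm_z hy) (der F.C.toCent) β hβ hx
  have hαs : α.symm F.C.z = F.C.z := by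
    rw [MulEquiv.symm_apply_eq]
    exact hα.symm
  let β : MulAut (MM F.C.toCent) :=
    { toFun := fun c => ⟨α c, hmap α hα c c.2⟩
      invFun := fun c => ⟨α.symm c, hmap α.symm hαs c c.2⟩
      left_inv := fun c => Subtype.ext (α.symm_apply_apply _)
      right_inv := fun c => Subtype.ext (α.apply_symm_apply _)
      map_mul' := fun a b => Subtype.ext (map_mul α _ _) }
  obtain ⟨p, hp, h1⟩ := AutP.exists_conj F.D F.perf β
  have hβ : ∀ c ∈ MM F.C.toCent, α c = p * c * p⁻¹ := fun c hc => h1 ⟨c, hc⟩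
  rcases cent_eq F.C ((MulAut.conj p)⁻¹ * α) (by
    intro c hc
    rw [OutQ.conj_inv_mul_apply, hβ c hc]; group) with h2 | h2
  · exact ⟨p, hp, (inv_mul_eq_one.1 h2).symm⟩
  · refine ⟨p * F.C.z, by rw [hp, mul_assoc, hp], ?_⟩
    rw [map_mul, ← h2, mul_inv_cancel_left]

/-- **every automorphism is inner** -/
theorem inner [Finite K] [IsSimpleGroup K] (F : Full K) (α : MulAut K) : ∃ p : K, α = MulAut.conj p := by
  have : Fact (Nat.Prime 2) := ⟨Nat.prime_two⟩
  obtain ⟨S, hzS, hS, hZ⟩ := Easy.syl F.C.toCent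
  have hcard : Nat.card ((S : Subgroup K).map α.toMonoidHom) = Nat.card S :=
    (Nat.card_congr ((S : Subgroup K).equivMapOfInjective α.toMonoidHom α.injective).toEquiv).symm
  let T : Sylow 2 K := Sylow.ofCard ((S : Subgroup K).map α.toMonoidHom) (by
    rw [hcard, ← Sylow.card_eq_multiplicity S])
  obtain ⟨g, hg⟩ := MulAction.exists_smul_eq K T S
  have hT : ∀ x ∈ S, g * α x * g⁻¹ ∈ S := by
    intro x hx
    have h1 : α x ∈ T := ⟨x, hx, rfl⟩
    have h2 : g * α x * g⁻¹ ∈ (g • T : Sylow 2 K) := by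
      rw [Sylow.smul_def]
      exact ⟨α x, h1, rfl⟩
    rwa [hg] at h2
  have hT' : ∀ y ∈ S, ∃ x ∈ S, y = g * α x * g⁻¹ := by
    intro y hy
    have h1 : y ∈ (g • T : Sylow 2 K) := by rw [hg]; exact hy
    rw [Sylow.smul_def] at h1
    obtain ⟨t, ⟨x, hx, rfl⟩, rfl⟩ := h1
    exact ⟨x, hx, rfl⟩
  have hfix : (MulAut.conj g * α) F.C.z = F.C.z := by
    rw [MulAut.mul_apply, MulAut.conj_apply]
    rcases hZ (g * α F.C.z * g⁻¹) (hT _ hzS) (by
      intro y hy
      obtain ⟨x, hx, rfl⟩ := hT' y hy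
      have h1 : α x * α F.C.z = α F.C.z * α x := by rw [← map_mul, ← map_mul, hS x hx]
      calc g * α x * g⁻¹ * (g * α F.C.z * g⁻¹) = g * (α x * α F.C.z) * g⁻¹ := by group
        _ = g * (α F.C.z * α x) * g⁻¹ := by rw [h1]
        _ = g * α F.C.z * g⁻¹ * (g * α x * g⁻¹) := by group) with h1 | h1
    · exfalso
      apply Easy.z1 F.C.toCent
      apply α.injective
      rw [map_one]
      calc α F.C.z = g⁻¹ * (g * α F.C.z * g⁻¹) * g := by group
        _ = 1 := by rw [h1]; group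
    · exact h1
  obtain ⟨p, -, hp⟩ := inner_of_fix F hfix
  refine ⟨g⁻¹ * p, ?_⟩
  rw [map_mul, ← hp, map_inv, inv_mul_cancel_left]

/-- **The sheet.** -/
theorem sheet [Finite K] [IsSimpleGroup K] (F : Full K) :
    OddHalf.D8.Sheet.SheetE F.C.z (MM F.C.toCent) F.C.Q := by
  have hrange : (MulAut.conj : K →* MulAut K).range = ⊤ := by
    rw [eq_top_iff]
    intro α _
    obtain ⟨p, hp⟩ := inner F α
    exact ⟨p, hp.symm⟩
  exact
    { zz := Easy.zz F.C.toCent
      z1 := Easy.z1 F.C.toCent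
      syl := Easy.syl F.C.toCent
      cen := fun x hx => comm_z hx
      perf := F.perf
      der := der F.C.toCent
      out := by rw [hrange, Subgroup.index_top]; decide
      schreier := ⟨0, by rw [hrange]; exact le_top⟩
      zR := F.C.z_mem_Q
      RP := Q_le_MM F.C.toCent
      R2 := Easy.Q2 F.C.toCent
      Rn := fun x hx r hr => F.C.Q_conj x (comm_z hx) r hr
      Rmax := fun B hB hB2 hn => AutP.rmax hB hB2 hn
      Rmin := fun B hB hn => Irr.irr F.D hB hn
      Rna := Easy.Rna F.C.toCent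
      cR := by
        have h := Easy.cR F.C.toCent
        rw [M_eq] at h
        exact h
      aut := by
        intro α hα2 hαz hα
        obtain ⟨p, hpz, rfl⟩ := inner_of_fix F hαz
        have hpC := Subgroup.mem_centralizer_singleton_iff.2 hpz
        -- `P p = 1`
        have h1 : F.C.P ⟨p, hpC⟩ = 1 := by
          apply Aut22.eq_one_of_centralizes (PreHexA.P_mem _)
          intro m
          obtain ⟨y, rfl⟩ := AutP.pi_surjective F.C.toCent m
          have h2 : (y : K)⁻¹ * (p * y * p⁻¹) ∈ F.C.Q := hα y y.2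
          have h3 : F.C.P (⟨y, MM_le _ y.2⟩⁻¹ * (⟨p, hpC⟩ * ⟨y, MM_le _ y.2⟩ * ⟨p, hpC⟩⁻¹)) = 1 :=
            (F.C.P_ker _).2 ⟨_, h2, 0, by rw [pow_zero, mul_one]; rfl⟩
          rw [map_mul, map_mul, map_mul, map_inv, map_inv, inv_mul_eq_one] at h3
          exact h3.symm
        obtain ⟨q, hq, i, h2⟩ := (F.C.P_ker _).1 h1
        have h2' : p = q * F.C.ρ ^ i := h2
        -- `p` is a 2-element
        obtain ⟨k, hk⟩ := hα2 ⟨MulAut.conj p, Subgroup.mem_zpowers _⟩
        have h3 : MulAut.conj (p ^ 2 ^ k) = 1 := by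
          rw [map_pow]
          exact congrArg Subtype.val hk
        have h4 : ∀ x : K, p ^ 2 ^ k * x = x * p ^ 2 ^ k := by
          intro x
          have h5 : MulAut.conj (p ^ 2 ^ k) x = x := by rw [h3]; rfl
          rw [MulAut.conj_apply] at h5
          exact mul_inv_eq_iff_eq_mul.1 h5
        have h5 : p ^ 2 ^ (k + 1) = 1 := by
          rw [pow_succ, pow_mul, pow_two]
          rcases F.C.Q_cent _ (fun q _ => h4 q) with h6 | h6
          · rw [h6, one_mul]
          · rw [h6]; exact Easy.zz F.C.toCent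
        rw [h2'] at h5
        have h6 := AutP.mem_Q_of_two hq h5
        refine ⟨p, ?_, rfl⟩
        rw [h2', h6, mul_one]
        exact hq
      ytrick := by
        obtain ⟨k, h1, h2, h3⟩ := Easy.exists_k F.C
        rw [M_eq] at h1 h3
        refine ⟨k, h1, h2, h3, fun β _ => ?_⟩
        obtain ⟨p, hp, h4⟩ := AutP.exists_conj F.D F.perf β
        exact ⟨p, hp, h4 _⟩ }

/-- **The sheet of type (E) for every group isomorphic to `J4`.** -/
theorem exists_sheet {K : Type*} [Group K] (h : Cfsg.Spor.IsoJ4 K) :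
    ∃ (z : K) (P R : Subgroup K), OddHalf.D8.Sheet.SheetE z P R := by
  obtain ⟨h1, h2, ⟨F⟩⟩ := exists_full h
  exact ⟨_, _, _, sheet F⟩

end Cfsg.Agent.KFacts.J4.SheetJ4
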