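import Cfsg.Agent.OddHalf.D4.Spor.OfBasic
import Cfsg.Agent.KFacts.J4.SheetJ4
import Cfsg.Agent.J4Type.DuadCent
import Cfsg.Agent.J4Type.FusionComm
import Cfsg.Agent.J4Type.OctHex0
import Cfsg.Agent.J4Type.Final

/-!
# The fourth Janko group: the sheet of D4

* `exists_conj_E` : every involution of a group with a `Compl` is conjugate into `E = 2^11`;
* `not_bad_duad` : no normal subgroup of order divisible by 4 of the centraliser `2^11.M22.2` of a duad, containing
  the duad, is without 2-central involutions;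
* `exists_sheet` : the sheet.
-/

set_option autoImplicit false

open scoped Pointwise

namespace Cfsg.Agent.KFacts.J4.DFour

open Cfsg Cfsg.Agent.J4Type Cfsg.Agent.J4Type.FinalRel Cfsg.Agent.J4Type.FinalTau
open Cfsg.Agent.J4Type.CloseInst Cfsg.Agent.KFacts.J4.Base
open Cfsg.Agent.SporadicA.GolayBase Cfsg.Agent.SporadicA.OctadFix
open Cfsg.Agent.OddHalf.D4

variable {G : Type*} [Group G]

/-- every involution is conjugate into `E` -/
theorem exists_conj_E [Finite G] [IsSimpleGroup G] (C : J4Type.Compl G) {u : G} (hu : u * u = 1)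
    (hu1 : u ≠ 1) : ∃ g : G, g * u * g⁻¹ ∈ C.E hex0 := by
  have hJ := Cfsg.Agent.S1703.result
  have hsimp := hJ.1
  have hfin : Finite Cfsg.Spor.J4 := Final.finite_J4 hJ
  obtain ⟨T, rfl⟩ := TauMain.exists_tau C
  have F := Tau.tauFam T (Rel2.relator2 T)
  obtain ⟨f, hphi, -, hs, -, -⟩ := F.exists_hom
  have hinj : Function.Injective f := FinalEmb.TauFam.injective hs
  have hcard : Nat.card Cfsg.Spor.J4 = Nat.card G := by
    obtain ⟨f', hf'⟩ := Top.exists_bijective_of_tau T (Rel2.relator2 T)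
    exact Nat.card_congr (Equiv.ofBijective f' hf')
  have hsurj : Function.Surjective f :=
    ((Nat.bijective_iff_injective_and_card f).2 ⟨hinj, hcard⟩).2
  obtain ⟨v, rfl⟩ := hsurj u
  have h3 : v * v = 1 := hinj (by rw [map_mul, hu, map_one])
  have h4 : v ≠ 1 := by
    rintro rfl
    exact hu1 (map_one f)
  obtain ⟨g, hg⟩ := Final.exists_mem_EJ hJ v h3 h4
  have hB : tetB.card = 4 := by decide +kernel
  have hE := ClosingJ4.map_EJ T.toCompl f hphi hB hs
  refine ⟨f g, ?_⟩
  rw [← map_inv, ← map_mul, ← map_mul]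
  show _ ∈ EE T.toCompl.toFrame
  rw [← hE]
  exact ⟨_, hg, rfl⟩

/-- the two classes of involutions -/
theorem classes [Finite G] [IsSimpleGroup G] (C : J4Type.Compl G) {u : G} (hu : u * u = 1)
    (hu1 : u ≠ 1) : (∃ g : G, g * C.z * g⁻¹ = u) ∨
      ∃ (p q : GolayPt) (g : G), p ≠ q ∧ g * C.ε {p, q} * g⁻¹ = u := by
  obtain ⟨g, hg⟩ := exists_conj_E C hu hu1
  have e0 : u = g⁻¹ * (g * u * g⁻¹) * g := by group
  rcases E_cases C.toFrame (a := g * u * g⁻¹) hg with h | ⟨p, q, hpq, h⟩ | ⟨S, hS, h⟩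
  · exfalso
    apply hu1
    rw [e0, h]
    group
  · right
    refine ⟨p, q, g⁻¹, hpq, ?_⟩
    show g⁻¹ * C.toFrame.ε {p, q} * g⁻¹⁻¹ = u
    rw [← h, inv_inv, ← e0]
  · left
    obtain ⟨n, hn⟩ := isConj_iff.1 (DuadCent.isConj_four C.toFrame hS)
    refine ⟨g⁻¹ * n, ?_⟩
    rw [e0, h, ← hn]
    show g⁻¹ * n * C.z * (g⁻¹ * n)⁻¹ = _
    group

section Frame

variable (K : Frame G)

theorem even_two {p q : GolayPt} (hpq : p ≠ q) : Even ({p, q} : Finset GolayPt).card := by
  rw [Finset.card_pair hpq]; decide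

theorem sq_duad {p q : GolayPt} (hpq : p ≠ q) : K.ε {p, q} * K.ε {p, q} = 1 :=
  (K.E_elem hex0 HexMax.hex0_isHex).1 _ (K.ε_mem _ (even_two hpq))

/-- different duads give different elements -/
theorem duad_inj {p q r s : GolayPt} (hpq : p ≠ q) (hrs : r ≠ s) (h : K.ε {p, q} = K.ε {r, s}) :
    ({p, q} : Finset GolayPt) = {r, s} := by
  have h1 : K.ε (symmDiff {p, q} {r, s}) = 1 := by
    rw [K.ε_mul _ _ (even_two hpq) (even_two hrs), h]
    exact sq_duad K hrs
  have h4 := Finset.card_le_card (Finset.symmDiff_subset_union (s := ({p, q} : Finset GolayPt)) (t := {r, s}))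
  have h5 := Finset.card_union_le ({p, q} : Finset GolayPt) {r, s}
  rw [Finset.card_pair hpq, Finset.card_pair hrs] at h5
  have hev : Even (symmDiff ({p, q} : Finset GolayPt) {r, s}).card := by
    rw [symmDiff_def, Finset.sup_eq_union, Finset.card_union_of_disjoint disjoint_sdiff_sdiff]
    have := Finset.card_pair hpq
    have := Finset.card_pair hrs
    have h6 := Finset.card_sdiff_add_card_inter ({p, q} : Finset GolayPt) {r, s}
    have h7 := Finset.card_sdiff_add_card_inter ({r, s} : Finset GolayPt) {p, q}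
    rw [Finset.inter_comm] at h7
    rw [Nat.even_iff]
    omega
  have h2 : IsCode _ := (K.ε_ker _ hev).1 h1
  have h3 := card_of_mem_supports h2
  have h8 : (symmDiff ({p, q} : Finset GolayPt) {r, s}).card = 0 := by omega
  rw [Finset.card_eq_zero] at h8
  exact symmDiff_eq_bot.1 h8

theorem ne_one_four {S : Finset GolayPt} (hS : S.card = 4) : K.ε S ≠ 1 := by
  intro h
  have h1 := DuadCent.isConj_four K hS
  rw [h] at h1
  exact z_ne_one K (isConj_one_left.1 h1)

/-- an element of `M24` fixing all the points but two is trivial -/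
theorem eq_one_of_fix {g : Equiv.Perm GolayPt} (hg : g ∈ M24) {a b : GolayPt} (hab : a ≠ b)
    (h : ∀ p, p ≠ a → p ≠ b → g p = p) : g = 1 := by
  classical
  obtain ⟨O₀, hO₀⟩ : ∃ O₀, O₀ ∈ octads := ⟨_, OctHex0.hex0_mem⟩
  have h8 := octad_card hO₀
  obtain ⟨c, hc, d, hd, hcd⟩ : ∃ c, c ∉ O₀ ∧ ∃ d, d ∉ O₀ ∧ c ≠ d := by
    have h1 : 1 < (Finset.univ \ O₀).card := by
      have h2 := Finset.card_sdiff_add_card_inter (Finset.univ : Finset GolayPt) O₀
      rw [Finset.univ_inter, h8, Finset.card_univ, HexMax.card24] at h2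
      omega
    obtain ⟨c, hc, d, hd, hcd⟩ := Finset.one_lt_card.1 h1
    exact ⟨c, (Finset.mem_sdiff.1 hc).2, d, (Finset.mem_sdiff.1 hd).2, hcd⟩
  obtain ⟨k, hka, hkb⟩ := exists_two hcd hab
  have hO : (k : Equiv.Perm GolayPt) • O₀ ∈ octads := HexMax.smul_octad k.2 hO₀
  have haO : a ∉ (k : Equiv.Perm GolayPt) • O₀ := by
    rw [← hka]
    intro h1
    exact hc (by simpa [Finset.mem_smul_finset] using h1)
  have hbO : b ∉ (k : Equiv.Perm GolayPt) • O₀ := by
    rw [← hkb]
    intro h1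
    exact hd (by simpa [Finset.mem_smul_finset] using h1)
  set O := (k : Equiv.Perm GolayPt) • O₀ with hOdef
  have hcardO := octad_card hO
  obtain ⟨p, hp⟩ : ∃ p, p ∉ O ∪ {a, b} := by
    by_contra hno
    push Not at hno
    have h1 : O ∪ {a, b} = Finset.univ := Finset.eq_univ_iff_forall.mpr hno
    have h2 := Finset.card_union_le O {a, b}
    rw [h1, Finset.card_univ, HexMax.card24, Finset.card_pair hab] at h2
    omega
  simp only [Finset.mem_union, Finset.mem_insert, Finset.mem_singleton, not_or] at hp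
  refine FusionComm.eq_one_of_fix_out hO (mem_fixOct.2 ⟨hg, fun x hx => h x ?_ ?_⟩) hp.1 (h p hp.2.1 hp.2.2)
  · rintro rfl
    exact haO hx
  · rintro rfl
    exact hbO hx

end Frame

/-! ### The centraliser of a duad -/

theorem exists_new (T : Finset GolayPt) (hT : T.card < 24) : ∃ x, x ∉ T := by
  by_contra hno
  push Not at hno
  have h1 : T = Finset.univ := Finset.eq_univ_iff_forall.mpr hno
  rw [h1, Finset.card_univ, HexMax.card24] at hT
  omega

theorem exists_map3 {a b c d : GolayPt} (hab : a ≠ b) (hac : a ≠ c) (hbc : b ≠ c) (had : a ≠ d) (hbd : b ≠ d) :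
    ∃ g : M24, (g : Equiv.Perm GolayPt) a = a ∧ (g : Equiv.Perm GolayPt) b = b ∧
      (g : Equiv.Perm GolayPt) c = d := by
  have h5 : MulAction.IsMultiplyPretransitive M24 GolayPt 5 := Cfsg.Agent.S0366.result
  have h3 : MulAction.IsMultiplyPretransitive M24 GolayPt 3 :=
    MulAction.isMultiplyPretransitive_of_le (n := 5) (by norm_num) (by simp [Cfsg.GolayPt])
  have inj : ∀ {x y z : GolayPt}, x ≠ y → x ≠ z → y ≠ z → Function.Injective ![x, y, z] := by
    intro x y z hxy hxz hyz i j hij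
    fin_cases i <;> fin_cases j <;> simp_all
  obtain ⟨g, hg⟩ := h3.exists_smul_eq ⟨![a, b, c], inj hab hac hbc⟩ ⟨![a, b, d], inj hab had hbd⟩
  refine ⟨g, ?_, ?_, ?_⟩
  · exact congrArg (fun f : Fin 3 ↪ GolayPt => f 0) hg
  · exact congrArg (fun f : Fin 3 ↪ GolayPt => f 1) hg
  · exact congrArg (fun f : Fin 3 ↪ GolayPt => f 2) hg

theorem smul_pair (g : Equiv.Perm GolayPt) (p q : GolayPt) : g • ({p, q} : Finset GolayPt) = {g p, g q} := by
  rw [Finset.smul_finset_insert, Finset.smul_finset_singleton]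
  rfl

section Duad

variable [Finite G] (C : J4Type.Compl G)

theorem bal_duad {p q : GolayPt} (hpq : p ≠ q) (I : Subgroup G)
    (h1 : ∀ i ∈ I, i * C.ε {p, q} = C.ε {p, q} * i)
    (h2 : ∀ c, c * C.ε {p, q} = C.ε {p, q} * c → ∀ i ∈ I, c * i * c⁻¹ ∈ I)
    (h3 : Odd (Nat.card I)) : I = ⊥ := by
  have hE := C.E_elem hex0 HexMax.hex0_isHex
  have hw : C.ε {p, q} ∈ C.E hex0 := C.ε_mem _ (even_two hpq)
  have hIE : ∀ x ∈ I, x ∈ C.E hex0 → x = 1 := by
    intro x hx hxE
    have e1 : x ^ 2 = 1 := by rw [pow_two]; exact hE.1 x hxE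
    have e2 : orderOf x ∣ Nat.card I := by
      have := orderOf_dvd_natCard (⟨x, hx⟩ : I)
      rwa [Subgroup.orderOf_mk] at this
    have e3 : orderOf x ∣ 2 := orderOf_dvd_of_pow_eq_one e1
    exact orderOf_eq_one_iff.1 (Nat.eq_one_of_dvd_coprimes h3.coprime_two_left e3 e2)
  rw [eq_bot_iff]
  intro x hx
  have hN := DuadCent.duad_cent C.toFrame hpq (h1 x hx)
  refine Subgroup.mem_bot.2 (hIE x hx (C.A_cent hex0 HexMax.hex0_isHex x fun a ha _ => ?_))
  have a1 : x * a * x⁻¹ ∈ C.E hex0 := (Subgroup.mem_normalizer_iff.1 hN a).1 ha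
  have a2 : x * a * x⁻¹ * a⁻¹ ∈ C.E hex0 := mul_mem a1 (inv_mem ha)
  have a3 : x * a * x⁻¹ * a⁻¹ ∈ I := by
    have := mul_mem hx (h2 a (hE.2 a ha _ hw) x⁻¹ (inv_mem hx))
    convert this using 1
    group
  have a4 := hIE _ a3 a2
  calc x * a = (x * a * x⁻¹ * a⁻¹) * a * x := by group
    _ = a * x := by rw [a4, one_mul]

theorem pair_symmDiff {p q a b : GolayPt} (hpa : p ≠ a) (hpb : p ≠ b) (hqa : q ≠ a)
    (hqb : q ≠ b) : symmDiff ({p, q} : Finset GolayPt) {a, b} = {p, q, a, b} := by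
  ext x
  simp only [Finset.mem_symmDiff, Finset.mem_insert, Finset.mem_singleton]
  constructor
  · rintro (⟨h | h, -⟩ | ⟨h | h, -⟩) <;> tauto
  · rintro (rfl | rfl | rfl | rfl)
    · exact Or.inl ⟨Or.inl rfl, by tauto⟩
    · exact Or.inl ⟨Or.inr rfl, by tauto⟩
    · exact Or.inr ⟨Or.inl rfl, by tauto⟩
    · exact Or.inr ⟨Or.inr rfl, by tauto⟩

theorem card_four {p q a b : GolayPt} (hpq : p ≠ q) (hab : a ≠ b) (hpa : p ≠ a) (hpb : p ≠ b) (hqa : q ≠ a)
    (hqb : q ≠ b) : ({p, q, a, b} : Finset GolayPt).card = 4 := by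
  rw [Finset.card_insert_of_notMem, Finset.card_insert_of_notMem, Finset.card_pair hab]
  · simp only [Finset.mem_insert, Finset.mem_singleton]
    tauto
  · simp only [Finset.mem_insert, Finset.mem_singleton]
    tauto

theorem pair_symmDiff' {a q r : GolayPt} (haq : a ≠ q) (har : a ≠ r) (hqr : q ≠ r) :
    symmDiff ({a, q} : Finset GolayPt) {a, r} = {q, r} := by
  ext x
  simp only [Finset.mem_symmDiff, Finset.mem_insert, Finset.mem_singleton]
  constructor
  · rintro (⟨h | h, h'⟩ | ⟨h | h, h'⟩) <;> tauto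
  · rintro (rfl | rfl)
    · exact Or.inl ⟨Or.inr rfl, by rintro (h | h); exacts [haq h.symm, hqr h]⟩
    · exact Or.inr ⟨Or.inr rfl, by rintro (h | h); exacts [har h.symm, hqr h.symm]⟩

theorem not_bad_duad (hz : Spor.Cen C.z) {a b : GolayPt} (hab : a ≠ b) (N : Subgroup G) :
    ¬ Spor.Bad (C.ε {a, b}) N := by
  intro hN
  have hE := C.E_elem hex0 HexMax.hex0_isHex
  have hwE : C.ε {a, b} ∈ C.E hex0 := C.ε_mem _ (even_two hab)
  have h4 : ∀ S : Finset GolayPt, S.card = 4 → C.ε S ∉ N := by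
    intro S hS hmem
    have hev : Even S.card := by rw [hS]; decide
    refine hN.non _ hmem (hE.1 _ (C.ε_mem _ hev)) (ne_one_four C.toFrame hS) ?_
    obtain ⟨n, hn⟩ := isConj_iff.1 (DuadCent.isConj_four C.toFrame hS)
    exact Spor.cen_conj hn hz
  have h5 : ∀ p q, p ≠ q → p ≠ a → p ≠ b → q ≠ a → q ≠ b → C.ε {p, q} ∉ N := by
    intro p q hpq h1 h2 h3 h6 hmem
    apply h4 _ (card_four hpq hab h1 h2 h3 h6)
    rw [← pair_symmDiff h1 h2 h3 h6, C.ε_mul _ _ (even_two hpq) (even_two hab)]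
    exact N.mul_mem hmem hN.mem
  have h6 : ∀ q, q ≠ a → q ≠ b → C.ε {a, q} ∉ N := by
    intro q hqa hqb hmem
    obtain ⟨r, hr⟩ := exists_new {a, b, q} (lt_of_le_of_lt Finset.card_le_three (by norm_num))
    simp only [Finset.mem_insert, Finset.mem_singleton, not_or] at hr
    obtain ⟨g, g1, g2, g3⟩ := exists_map3 hab hqa.symm hqb.symm (Ne.symm hr.1) (Ne.symm hr.2.1)
    have hc : C.φ g * C.ε {a, b} = C.ε {a, b} * C.φ g := by
      have := ClosingJ4.phi_conj C g (even_two hab)
      rw [smul_pair, g1, g2] at this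
      exact mul_inv_eq_iff_eq_mul.1 this
    have h7 := hN.norm _ hc _ hmem
    rw [ClosingJ4.phi_conj C g (even_two hqa.symm), smul_pair, g1, g3] at h7
    apply h5 q r (Ne.symm hr.2.2) hqa hqb hr.1 hr.2.1
    rw [← pair_symmDiff' hqa.symm (Ne.symm hr.1) (Ne.symm hr.2.2),
      C.ε_mul _ _ (even_two hqa.symm) (even_two (Ne.symm hr.1))]
    exact N.mul_mem hmem h7
  have h7 : ∀ q, q ≠ a → q ≠ b → C.ε {b, q} ∉ N := by
    intro q hqa hqb hmem
    apply h6 q hqa hqb
    rw [← pair_symmDiff' hab.symm hqb.symm hqa.symm, C.ε_mul _ _ (even_two hab.symm) (even_two hqb.symm),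
      Finset.pair_comm b a]
    exact N.mul_mem hN.mem hmem
  have h8 : ∀ x ∈ N, x ∈ C.E hex0 → x = 1 ∨ x = C.ε {a, b} := by
    intro x hx hxE
    rcases E_cases C.toFrame (a := x) hxE with h | ⟨p, q, hpq, h⟩ | ⟨S, hS, h⟩
    · exact Or.inl h
    · right
      have hx' : C.ε {p, q} ∈ N := by
        have : C.toFrame.ε {p, q} ∈ N := h ▸ hx
        exact this
      by_cases hpa : p = a
      · subst hpa
        by_cases hqb : q = b
        · subst hqb
          exact h
        · exact absurd hx' (h6 q hpq.symm hqb)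
      · by_cases hpb : p = b
        · subst hpb
          by_cases hqa : q = a
          · subst hqa
            rw [h, Finset.pair_comm p q]
          · exact absurd hx' (h7 q hqa hpq.symm)
        · by_cases hqa : q = a
          · subst hqa
            rw [Finset.pair_comm] at hx'
            exact absurd hx' (h6 p hpa hpb)
          · by_cases hqb : q = b
            · subst hqb
              rw [Finset.pair_comm] at hx'
              exact absurd hx' (h7 p hpa hpb)
            · exact absurd hx' (h5 p q hpq hpa hpb hqa hqb)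
    · exact absurd (h ▸ hx) (h4 S hS)
  have h9 : ∀ n ∈ N, n ∈ C.E hex0 := by
    intro n hn
    have hnN := DuadCent.duad_cent C.toFrame hab (hN.le n hn)
    have hpair : ∀ p q, p ≠ q → p ≠ a → p ≠ b → q ≠ a → q ≠ b →
        ({(C.π ⟨n, hnN⟩ : Equiv.Perm GolayPt) p, (C.π ⟨n, hnN⟩ : Equiv.Perm GolayPt) q} : Finset GolayPt) =
          {p, q} := by
      intro p q hpq k1 k2 k3 k4
      have hg : (C.π ⟨n, hnN⟩ : Equiv.Perm GolayPt) p ≠ (C.π ⟨n, hnN⟩ : Equiv.Perm GolayPt) q :=
        fun h => hpq ((C.π ⟨n, hnN⟩ : Equiv.Perm GolayPt).injective h)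
      have e1 : n * C.ε {p, q} * n⁻¹ =
          C.ε {(C.π ⟨n, hnN⟩ : Equiv.Perm GolayPt) p, (C.π ⟨n, hnN⟩ : Equiv.Perm GolayPt) q} := by
        rw [← smul_pair]
        exact C.π_smul ⟨n, hnN⟩ _ (even_two hpq)
      have hpE : C.ε {p, q} ∈ C.E hex0 := C.ε_mem _ (even_two hpq)
      have e2 : n * C.ε {p, q} * n⁻¹ * (C.ε {p, q})⁻¹ ∈ N := by
        have := N.mul_mem hn (hN.norm (C.ε {p, q}) (hE.2 _ hpE _ hwE) n⁻¹ (N.inv_mem hn))
        convert this using 1
        group
      have e3 : n * C.ε {p, q} * n⁻¹ * (C.ε {p, q})⁻¹ ∈ C.E hex0 := by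
        rw [e1]
        exact mul_mem (C.ε_mem _ (even_two hg)) (inv_mem hpE)
      rcases h8 _ e2 e3 with e | e
      · rw [mul_inv_eq_one, e1] at e
        exact duad_inj C.toFrame hg hpq e
      · exfalso
        rw [mul_inv_eq_iff_eq_mul, e1] at e
        apply C.duad_not_conj _ _ hg
        rw [e, hE.2 _ hwE _ hpE, ← C.ε_mul _ _ (even_two hpq) (even_two hab), pair_symmDiff k1 k2 k3 k4]
        exact DuadCent.isConj_four C.toFrame (card_four hpq hab k1 k2 k3 k4)
    have hfix : ∀ p, p ≠ a → p ≠ b → (C.π ⟨n, hnN⟩ : Equiv.Perm GolayPt) p = p := by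
      intro p hpa hpb
      obtain ⟨q, hq⟩ := exists_new {a, b, p} (lt_of_le_of_lt Finset.card_le_three (by norm_num))
      simp only [Finset.mem_insert, Finset.mem_singleton, not_or] at hq
      obtain ⟨r, hr⟩ := exists_new {a, b, p, q} (lt_of_le_of_lt Finset.card_le_four (by norm_num))
      simp only [Finset.mem_insert, Finset.mem_singleton, not_or] at hr
      have k1 := hpair p q (Ne.symm hq.2.2) hpa hpb hq.1 hq.2.1
      have k2 := hpair p r (Ne.symm hr.2.2.1) hpa hpb hr.1 hr.2.1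
      have k3 : (C.π ⟨n, hnN⟩ : Equiv.Perm GolayPt) p ∈ ({p, q} : Finset GolayPt) := by
        rw [← k1]; simp
      have k4 : (C.π ⟨n, hnN⟩ : Equiv.Perm GolayPt) p ∈ ({p, r} : Finset GolayPt) := by
        rw [← k2]; simp
      simp only [Finset.mem_insert, Finset.mem_singleton] at k3 k4
      rcases k3 with k3 | k3
      · exact k3
      · rcases k4 with k4 | k4
        · exact k4
        · exact absurd (k4.symm.trans k3) hr.2.2.2
    exact (C.π_ker ⟨n, hnN⟩).1 (Subtype.ext (eq_one_of_fix (C.π ⟨n, hnN⟩).2 hab hfix))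
  have h10 : Nat.card N ≤ Nat.card Bool := by
    classical
    apply Nat.card_le_card_of_injective (fun x : N => decide ((x : G) = 1))
    intro x y hxy
    have h3 : ((x : G) = 1) ↔ ((y : G) = 1) := by
      have := congrArg (· = true) hxy
      simpa using this
    rcases h8 x x.2 (h9 x x.2) with hx | hx
    · exact Subtype.ext (hx.trans (h3.1 hx).symm)
    · rcases h8 y y.2 (h9 y y.2) with hy | hy
      · exact Subtype.ext ((h3.2 hy).trans hy.symm)
      · exact Subtype.ext (hx.trans hy.symm)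
  rw [Nat.card_eq_fintype_card (α := Bool), Fintype.card_bool] at h10
  have := Nat.le_of_dvd Nat.card_pos hN.four
  omega

end Duad

/-! ### The sheet -/

/-- `Bad` and conjugation -/
theorem Bad.conj {w g : G} {N : Subgroup G} (h : Spor.Bad (g * w * g⁻¹) N) :
    Spor.Bad w (N.map (MulAut.conj g⁻¹).toMonoidHom) := by
  have hmem : ∀ x : G, x ∈ N.map (MulAut.conj g⁻¹).toMonoidHom ↔ g * x * g⁻¹ ∈ N := by
    intro x
    constructor
    · rintro ⟨y, hy, rfl⟩
      show g * (g⁻¹ * y * g⁻¹⁻¹) * g⁻¹ ∈ N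
      have e : g * (g⁻¹ * y * g⁻¹⁻¹) * g⁻¹ = y := by group
      rw [e]
      exact hy
    · intro hx
      refine ⟨_, hx, ?_⟩
      show g⁻¹ * (g * x * g⁻¹) * g⁻¹⁻¹ = x
      group
  exact
    { sq := by
        have := h.sq
        calc w * w = g⁻¹ * (g * w * g⁻¹ * (g * w * g⁻¹)) * g := by group
          _ = 1 := by rw [this]; group
      ne := by
        rintro rfl
        apply h.ne
        group
      mem := (hmem _).2 h.mem
      le := by
        intro n hn
        have := h.le _ ((hmem n).1 hn)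
        calc n * w = g⁻¹ * (g * n * g⁻¹ * (g * w * g⁻¹)) * g := by group
          _ = g⁻¹ * (g * w * g⁻¹ * (g * n * g⁻¹)) * g := by rw [this]
          _ = w * n := by group
      norm := by
        intro c hc n hn
        rw [hmem] at hn ⊢
        have := h.norm (g * c * g⁻¹) (by
          calc g * c * g⁻¹ * (g * w * g⁻¹) = g * (c * w) * g⁻¹ := by group
            _ = g * (w * c) * g⁻¹ := by rw [hc]
            _ = _ := by group) _ hn
        convert this using 1
        group
      four := by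
        rw [← Nat.card_congr (N.equivMapOfInjective _ (MulAut.conj g⁻¹).injective).toEquiv]
        exact h.four
      non := by
        intro b hb hbb hb1 hc
        rw [hmem] at hb
        refine h.non _ hb ?_ ?_ (Spor.cen_conj rfl hc)
        · calc g * b * g⁻¹ * (g * b * g⁻¹) = g * (b * b) * g⁻¹ := by group
            _ = 1 := by rw [hbb]; group
        · intro e
          apply hb1
          calc b = g⁻¹ * (g * b * g⁻¹) * g := by group
            _ = 1 := by rw [e]; group }

/-- **The sheet of D4.** -/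
theorem sheet [Finite G] [IsSimpleGroup G] (F : Full G) : Spor.Sheet G := by
  have hS := SheetJ4.sheet F
  have hcz : Spor.Cen F.C.z := Spor.cen_z hS.basic
  refine Spor.Sheet.of_basic_tab hS.basic ?_ (Spor.out2_of_inn (SheetJ4.inner F)) (Spor.tab_of_not_bad ?_)
  · intro a haa ha1
    rcases classes F.C haa ha1 with ⟨g, hg⟩ | ⟨p, q, g, hpq, hg⟩
    · refine Spor.bal_of_one (Spor.bal_of_sheetE hS fun x hx hodd => ?_) hg
      exact mem_of_odd hx hodd (pow_orderOf_eq_one x)
    · exact Spor.bal_of_one (bal_duad F.C hpq) hg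
  · intro w N hN
    rcases classes F.C hN.sq hN.ne with ⟨g, hg⟩ | ⟨p, q, g, hpq, hg⟩
    · exact hN.non w hN.mem hN.sq hN.ne (Spor.cen_conj hg hcz)
    · rw [← hg] at hN
      exact not_bad_duad F.C hcz hpq _ (Bad.conj hN)

/-- **The sheet of D4 for every group isomorphic to `J4`.** -/
theorem exists_sheet {K : Type*} [Group K] (h : Cfsg.Spor.IsoJ4 K) : Spor.Sheet K := by
  obtain ⟨h1, h2, ⟨F⟩⟩ := exists_full h
  exact sheet F

theorem sheet_J4 : Spor.Sheet Cfsg.Spor.J4 := exists_sheet ⟨MulEquiv.refl _⟩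

end Cfsg.Agent.KFacts.J4.DFour
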