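import Cfsg.Agent.J4Type.TauMask
import Cfsg.Agent.J4Type.FinalGen
import Cfsg.Agent.J4.M24Hom

/-!
# J4: two conjugates of `C_G(z)^∞` (helper615, for helper869's sheet of J4)

`C : Compl G`; `MM` is the subgroup of index 2 of `C_G(z)` (`P c none = none`).
For the explicit element `h` of `M24`, `z' = φ(h) z φ(h)⁻¹`:

* `C1` : an element commuting with `MM ∩ MM^φ(h)` lies in `{1, z, z', z z'}`;
* `C2` : a subgroup containing `MM` and `φ(h) MM φ(h)⁻¹` contains `φ(M24)` and `C_G(z)`.
-/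

set_option autoImplicit false

open scoped Pointwise

namespace Cfsg.Agent.KFacts.J4.Gen

open Cfsg Cfsg.Agent.SporadicA.GolayBase Cfsg.Agent.SporadicA.GolayPerm
open Cfsg.Agent.J4Type Cfsg.Agent.J4Type.TauM24 Cfsg.Agent.J4Type.TauMask
open Cfsg.Agent.J4Type.SplitData (zm)
open Cfsg.Agent.J4Type.CocodeMask (IsTab isTab_one isTab_mk mk act actT act_eq ev ev_act)
open Cfsg.Agent.J4Type.FrameDefs (c)
open Cfsg.Agent.J4.M24Hom (XM YM)

/-! ### explicit elements of `M24` -/

def Ph : ℕ := 695347535913303985372650158084435411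
def Pa : ℕ := 520556567710332222812850955335574091
def Pb : ℕ := 153500299761813447968845081606309317
def Py : ℕ := 55394568543912416201408027919834176
def Pg1 : ℕ := 984162656288205181803220248973149186
def Pg2 : ℕ := 45620866158673921783989623946730560
def Pk1 : ℕ := 984532935372671352453315941286346817
def Pk2 : ℕ := 48216896235503772413490191994685463
def Pm : ℕ := 965985432935273840898870684669188448
def PX : ℕ := 521366414552910786153029034648536137
def PY : ℕ := 525297441932761576910024532220217649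

noncomputable def eh : M24 := mk Ph (by decide +kernel)
noncomputable def ea : M24 := mk Pa (by decide +kernel)
noncomputable def eb : M24 := mk Pb (by decide +kernel)
noncomputable def ey : M24 := mk Py (by decide +kernel)
noncomputable def eg1 : M24 := mk Pg1 (by decide +kernel)
noncomputable def eg2 : M24 := mk Pg2 (by decide +kernel)
noncomputable def ek1 : M24 := mk Pk1 (by decide +kernel)
noncomputable def ek2 : M24 := mk Pk2 (by decide +kernel)
noncomputable def em : M24 := mk Pm (by decide +kernel)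

theorem isPerm_Pm : isPerm Pm = true := by decide +kernel

theorem tab_h : IsTab eh Ph := isTab_mk Ph _
theorem tab_a : IsTab ea Pa := isTab_mk Pa _
theorem tab_b : IsTab eb Pb := isTab_mk Pb _
theorem tab_y : IsTab ey Py := isTab_mk Py _
theorem tab_g1 : IsTab eg1 Pg1 := isTab_mk Pg1 _
theorem tab_g2 : IsTab eg2 Pg2 := isTab_mk Pg2 _
theorem tab_k1 : IsTab ek1 Pk1 := isTab_mk Pk1 _
theorem tab_k2 : IsTab ek2 Pk2 := isTab_mk Pk2 _

theorem tabX : IsTab XM PX := by
  show ∀ p : GolayPt, idx (Cfsg.Agent.J4.M24Hom.X p) = papp PX (idx p)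
  decide +kernel

theorem tabY : IsTab YM PY := by
  show ∀ p : GolayPt, idx (Cfsg.Agent.J4.M24Hom.Y p) = papp PY (idx p)
  decide +kernel

theorem eq_of_pcomp {g g' k k' : M24} {P P' Q Q' : ℕ} (hg : IsTab g P) (hk : IsTab k Q)
    (hg' : IsTab g' P') (hk' : IsTab k' Q')
    (h : CocodeMask.pcomp P Q = CocodeMask.pcomp P' Q') : g * k = g' * k' := by
  have h1 := hg.mul hk
  rw [h] at h1
  exact h1.eq (hg'.mul hk')

theorem pow_three {g : M24} {P : ℕ} (hg : IsTab g P)
    (h : CocodeMask.pcomp (CocodeMask.pcomp P P) P = CocodeMask.pone) : g ^ 3 = 1 := by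
  have h1 := (hg.mul hg).mul hg
  rw [h] at h1
  rw [pow_succ, pow_two]
  exact h1.eq isTab_one

theorem pow_five {g : M24} {P : ℕ} (hg : IsTab g P)
    (h : CocodeMask.pcomp (CocodeMask.pcomp (CocodeMask.pcomp (CocodeMask.pcomp P P) P) P) P =
      CocodeMask.pone) : g ^ 5 = 1 := by
  have h1 := (((hg.mul hg).mul hg).mul hg).mul hg
  rw [h] at h1
  rw [pow_succ, pow_succ, pow_succ, pow_two]
  exact h1.eq isTab_one

theorem X_eq : XM = ea * (eh * eb * eh⁻¹) := by
  have h1 : XM * eh = (ea * eh) * eb :=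
    eq_of_pcomp tabX tab_h (tab_a.mul tab_h) tab_b
      (by decide +kernel)
  rw [← mul_assoc, ← mul_assoc, ← h1, mul_inv_cancel_right]

theorem Y_eq : YM = eh * ey * eh⁻¹ := by
  have h1 : YM * eh = eh * ey :=
    eq_of_pcomp tabY tab_h tab_h tab_y (by decide +kernel)
  rw [← h1, mul_inv_cancel_right]

theorem g1_eq : eh⁻¹ * eg1 * eh = ek1 := by
  have h1 : eg1 * eh = eh * ek1 :=
    eq_of_pcomp tab_g1 tab_h tab_h tab_k1
      (by decide +kernel)
  rw [mul_assoc, h1, inv_mul_cancel_left]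

theorem g2_eq : eh⁻¹ * eg2 * eh = ek2 := by
  have h1 : eg2 * eh = eh * ek2 :=
    eq_of_pcomp tab_g2 tab_h tab_h tab_k2
      (by decide +kernel)
  rw [mul_assoc, h1, inv_mul_cancel_left]

theorem mem_Kz_of {g : M24} {P : ℕ} (hg : IsTab g P) (h : actT P zm = zm) : g ∈ Kz := by
  rw [mem_Kz_iff, act_eq hg]
  exact h

theorem a_mem : ea ∈ Kz := mem_Kz_of tab_a (by decide +kernel)
theorem b_mem : eb ∈ Kz := mem_Kz_of tab_b (by decide +kernel)
theorem y_mem : ey ∈ Kz := mem_Kz_of tab_y (by decide +kernel)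
theorem g1_mem : eg1 ∈ Kz := mem_Kz_of tab_g1 (by decide +kernel)
theorem g2_mem : eg2 ∈ Kz := mem_Kz_of tab_g2 (by decide +kernel)
theorem k1_mem : ek1 ∈ Kz := mem_Kz_of tab_k1 (by decide +kernel)
theorem k2_mem : ek2 ∈ Kz := mem_Kz_of tab_k2 (by decide +kernel)

theorem a_pow : ea ^ 3 = 1 := pow_three tab_a (by decide +kernel)
theorem b_pow : eb ^ 5 = 1 := pow_five tab_b (by decide +kernel)
theorem y_pow : ey ^ 3 = 1 := pow_three tab_y (by decide +kernel)
theorem g1_pow : eg1 ^ 3 = 1 := pow_three tab_g1 (by decide +kernel)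
theorem g2_pow : eg2 ^ 3 = 1 := pow_three tab_g2 (by decide +kernel)
theorem k1_pow : ek1 ^ 3 = 1 := pow_three tab_k1 (by decide +kernel)
theorem k2_pow : ek2 ^ 3 = 1 := pow_three tab_k2 (by decide +kernel)

theorem tab_m : IsTab em Pm := isTab_mk Pm _

theorem act_h : act eh zm = 3758 := by
  rw [act_eq tab_h]
  decide +kernel

theorem fix_check : allR 12 0 (fun m => !(ev m && Nat.beq (actT Pg1 m) m && Nat.beq (actT Pg2 m) m)
    || (Nat.beq m 0 || Nat.beq m 783 || Nat.beq m 3489 || Nat.beq m 3758)) = true := by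
  decide +kernel

theorem fix_cases {m : ℕ} (hm : ev m = true) (h1 : act eg1 m = m) (h2 : act eg2 m = m) :
    m = 0 ∨ m = 783 ∨ m = 3489 ∨ m = 3758 := by
  have hlt : m < 2 ^ 12 := ((CocodeMask.ev_iff m).1 hm).1
  have h3 := allR_zero_spec fix_check m hlt
  rw [act_eq tab_g1] at h1
  rw [act_eq tab_g2] at h2
  simp only [hm, h1, h2, Nat.beq_refl, Bool.and_self, Bool.not_true, Bool.false_or,
    Bool.or_eq_true, Nat.beq_eq] at h3
  tauto

/-! ### the subgroup `MM` -/

variable {G : Type*} [Group G] (C : J4Type.Compl G)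

theorem c_zm : (c C.toFrame zm : G) = C.z := by
  rw [← msk_tet 0, c_msk C.toFrame (by rw [TauM24.tet_card]; decide), C.ε_tet]

theorem ev_zm : ev zm = true := by decide +kernel

/-- the second central involution -/
theorem conj_z : C.φ eh * C.z * (C.φ eh)⁻¹ = c C.toFrame 3758 := by
  rw [← c_zm, φ_c C eh ev_zm, act_h]

theorem phi_comm {g : M24} (hg : g ∈ Kz) : C.φ g ∈ Subgroup.centralizer ({C.z} : Set G) := by
  rw [Subgroup.mem_centralizer_singleton_iff]
  have h1 := φ_c C g ev_zm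
  rw [(mem_Kz_iff g).1 hg, c_zm, mul_inv_eq_iff_eq_mul] at h1
  exact h1

theorem base_cases {p : GolayPt} (h : p ∈ base) : p = none ∨ p = some 0 := by
  simpa [base] using h

/-- an element of odd order of `M22:2` fixes the two base points -/
theorem fix_none {σ : Equiv.Perm GolayPt} (hσ : σ • base = base) {n : ℕ} (hn : Odd n)
    (h : σ ^ n = 1) : σ none = none := by
  by_contra hne
  have hmem : ∀ p ∈ base, σ p ∈ base := by
    intro p hp
    rw [← hσ]
    exact Finset.smul_mem_smul_finset hp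
  have h0 : σ none = some 0 := by
    rcases base_cases (hmem none (by simp [base])) with h1 | h1
    · exact absurd h1 hne
    · exact h1
  have h1 : σ (some 0) = none := by
    rcases base_cases (hmem (some 0) (by simp [base])) with h1 | h1
    · exact h1
    · have h2 : σ (some 0) = σ none := h1.trans h0.symm
      exact absurd (σ.injective h2) (by decide)
  have key : ∀ k : ℕ, (σ ^ (2 * k)) none = none := by
    intro k
    induction k with
    | zero => rfl
    | succ k ih =>
      have e : 2 * (k + 1) = 1 + 1 + 2 * k := by ring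
      rw [e, pow_add, Equiv.Perm.mul_apply, ih, pow_add, pow_one, Equiv.Perm.mul_apply, h0, h1]
  obtain ⟨k, rfl⟩ := hn
  have h2 : (σ ^ (2 * k + 1)) none = none := by rw [h]; rfl
  rw [pow_succ', Equiv.Perm.mul_apply, key] at h2
  exact hne h2

theorem P_base (x : Subgroup.centralizer ({C.z} : Set G)) : C.P x • base = base := by
  have h : C.P x ∈ M22d := by
    rw [← C.P_range]
    exact ⟨x, rfl⟩
  exact h.2

section

variable {MM : Subgroup G} (hMM : ∀ x : G, x ∈ MM ↔
  ∃ hx : x ∈ Subgroup.centralizer ({C.z} : Set G), C.P ⟨x, hx⟩ none = none)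

include hMM

theorem phi_mem {g : M24} (hg : g ∈ Kz) {n : ℕ} (hn : Odd n) (h1 : g ^ n = 1) : C.φ g ∈ MM := by
  rw [hMM]
  refine ⟨phi_comm C hg, fix_none (P_base C _) hn ?_⟩
  rw [← map_pow]
  have h2 : (⟨C.φ g, phi_comm C hg⟩ : Subgroup.centralizer ({C.z} : Set G)) ^ n = 1 := by
    apply Subtype.ext
    show (C.φ g) ^ n = 1
    rw [← map_pow, h1, map_one]
  rw [h2, map_one]

theorem E_le : C.E hex0 ≤ MM := by
  intro a ha
  rw [hMM]
  have hx : a ∈ Subgroup.centralizer ({C.z} : Set G) := by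
    rw [Subgroup.mem_centralizer_singleton_iff]
    exact (C.E_elem hex0 HexMax.hex0_isHex).2 _ ha _ (C.z_mem_E hex0 HexMax.hex0_isHex)
  refine ⟨hx, ?_⟩
  exact ((C.E_map hex0 HexMax.hex0_isHex (C.P ⟨a, hx⟩)).1 ⟨⟨a, hx⟩, ha, rfl⟩).2 none
    (by decide +kernel)

omit hMM in
theorem conj_E {a : G} (ha : a ∈ C.E hex0) (g : M24) : (C.φ g)⁻¹ * a * C.φ g ∈ C.E hex0 := by
  have h1 := (Subgroup.mem_normalizer_iff.1 (C.φ_mem g⁻¹) a).1 ha
  rw [map_inv, inv_inv] at h1
  exact h1

/-- **(C1)** -/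
theorem C1 {s : G} (hs : ∀ x ∈ MM, (C.φ eh)⁻¹ * x * C.φ eh ∈ MM → s * x = x * s) :
    s = 1 ∨ s = C.z ∨ s = C.φ eh * C.z * (C.φ eh)⁻¹ ∨
      s = C.z * (C.φ eh * C.z * (C.φ eh)⁻¹) := by
  have h1 : s ∈ C.E hex0 := by
    apply C.A_cent hex0 HexMax.hex0_isHex
    intro a ha _
    exact hs a (E_le C hMM ha) (E_le C hMM (conj_E C ha eh))
  obtain ⟨m, hm, rfl⟩ := exists_c C.toFrame h1
  have key : ∀ g k : M24, g ∈ Kz → g ^ 3 = 1 → eh⁻¹ * g * eh = k → k ∈ Kz → k ^ 3 = 1 →
      act g m = m := by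
    intro g k hg hg3 hgk hk hk3
    have h2 := hs (C.φ g) (phi_mem C hMM hg (by decide) hg3) (by
      rw [← map_inv, ← map_mul, ← map_mul, hgk]
      exact phi_mem C hMM hk (by decide) hk3)
    have h3 := φ_c C g hm
    rw [← h2, mul_inv_cancel_right] at h3
    exact (c_inj C.toFrame hm (ev_act g hm) h3).symm
  rw [conj_z]
  rcases fix_cases hm (key _ _ g1_mem g1_pow g1_eq k1_mem k1_pow)
    (key _ _ g2_mem g2_pow g2_eq k2_mem k2_pow) with rfl | rfl | rfl | rfl
  · exact Or.inl (c_zero C.toFrame)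
  · right; right; right
    have e : zm ^^^ 3758 = 783 := by decide +kernel
    rw [← c_zm, ← c_xor C.toFrame ev_zm (by decide +kernel), e]
  · right; left
    exact c_zm C
  · right; right; left
    rfl

omit hMM in
theorem z'_ne : C.φ eh * C.z * (C.φ eh)⁻¹ ≠ C.z := by
  rw [conj_z, ← c_zm]
  intro h
  have h1 := c_inj C.toFrame (by decide +kernel) ev_zm h
  exact absurd h1 (by decide +kernel)

theorem z_mem : C.z ∈ MM := E_le C hMM (C.z_mem_E hex0 HexMax.hex0_isHex)

/-- **(C2), first half** -/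
theorem C2 {H : Subgroup G} (h1 : MM ≤ H) (h2 : ∀ x ∈ MM, C.φ eh * x * (C.φ eh)⁻¹ ∈ H) :
    (∀ g, C.φ g ∈ H) ∧ Subgroup.centralizer ({C.z} : Set G) ≤ H := by
  have hφ : ∀ g, C.φ g ∈ H := by
    have hX : C.φ XM ∈ H := by
      rw [X_eq, map_mul, map_mul, map_mul, map_inv]
      exact H.mul_mem (h1 (phi_mem C hMM a_mem (by decide) a_pow))
        (h2 _ (phi_mem C hMM b_mem (by decide) b_pow))
    have hY : C.φ YM ∈ H := by
      rw [Y_eq, map_mul, map_mul, map_inv]
      exact h2 _ (phi_mem C hMM y_mem (by decide) y_pow)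
    have h3 : (⊤ : Subgroup M24) ≤ H.comap C.φ := by
      rw [← Cfsg.Agent.J4.M24Hom.closure_XYM, Subgroup.closure_le]
      rintro g (rfl | rfl)
      · exact hX
      · exact hY
    exact fun g => h3 (Subgroup.mem_top g)
  refine ⟨hφ, FinalGen.centralizer_le C H hφ (h1 (z_mem C hMM)) ?_⟩
  have hm : (em : Equiv.Perm GolayPt) ∈ M22d := by
    refine Subgroup.mem_inf.2 ⟨em.2, MulAction.mem_stabilizer_iff.2 ?_⟩
    have hb : base = fin 8388609 := by decide +kernel
    have hp : pimg Pm 8388609 = 8388609 := by decide +kernel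
    rw [hb]
    show permOf Pm isPerm_Pm • fin 8388609 = _
    rw [smul_fin, hp]
  rw [← C.P_range] at hm
  obtain ⟨x, hx⟩ := hm
  refine ⟨x, h1 ((hMM x).2 ⟨x.2, ?_⟩), ?_⟩
  · show C.P x none = none
    rw [hx]
    apply idx_injective
    rw [tab_m none]
    decide +kernel
  · rw [hx]
    have h0 : hex0 = fin 8391797 := by decide +kernel
    rw [h0]
    show permOf Pm isPerm_Pm • fin 8391797 ≠ _
    rw [smul_fin]
    intro h
    have h5 := congrArg maskOf h
    rw [maskOf_fin (m := pimg Pm 8391797) (by decide +kernel),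
      maskOf_fin (m := 8391797) (by norm_num)] at h5
    exact absurd h5 (by decide +kernel)

end

end Cfsg.Agent.KFacts.J4.Gen
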