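import Cfsg.Agent.KFacts.J4.Base

/-!
# The fourth Janko group: `2^{1+12}.3.M22` acts irreducibly on `Q/⟨z⟩ = F₄⁶`, and only scalars commute with it
-/

set_option autoImplicit false

namespace Cfsg.Agent.KFacts.J4.Irr

open Cfsg Cfsg.Agent.J4Type Cfsg.Agent.KFacts.J4.Base
open SporadicA.FieldFour VCoord CentCoords PreHexLin PreHexA PreHexPerm

/-! ### Linear algebra -/

/-- `x e₀` in the first half -/
def E1 (x : F4) : V6 := (![x, 0, 0], 0)
/-- `x e₀` in the second half -/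
def E2 (x : F4) : V6 := (0, ![x, 0, 0])

/-- the projection on the coordinate 0 of both halves -/
def P0 (v : V6) : V6 := v + MDg v + MDg (MDg v)

theorem P0_eq (v : V6) : P0 v = (![v.1 0, 0, 0], ![v.2 0, 0, 0]) := by
  have h : ∀ x : F4, x + .w * x + .w * (.w * x) = 0 ∧ x + .v * x + .v * (.v * x) = 0 ∧ x + x + x = x := by decide
  refine Prod.ext (funext fun k => ?_) (funext fun k => ?_)
  · fin_cases k
    · exact (h (v.1 0)).2.2
    · exact (h (v.1 1)).1
    · exact (h (v.1 2)).2.1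
  · fin_cases k
    · exact (h (v.2 0)).2.2
    · exact (h (v.2 1)).1
    · exact (h (v.2 2)).2.1

theorem NB_eq (v : V6) : MB01 v + v = (B01 v.2, 0) := by
  refine Prod.ext ?_ ?_
  · show v.1 + B01 v.2 + v.1 = B01 v.2
    rw [add_comm v.1, add_assoc, add_self3, add_zero]
  · exact add_self3 v.2

theorem NC_eq (v : V6) : MC1 v + v = (0, C1 v.1) := by
  refine Prod.ext ?_ ?_
  · exact add_self3 v.1
  · show v.2 + C1 v.1 + v.2 = C1 v.1
    rw [add_comm v.2, add_assoc, add_self3, add_zero]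

theorem sum_eq (v : V6) : v = (E1 (v.1 0) + MSh (E1 (v.1 1)) + MSh (MSh (E1 (v.1 2)))) +
    (E2 (v.2 0) + MSh (E2 (v.2 1)) + MSh (MSh (E2 (v.2 2)))) := by
  refine Prod.ext (funext fun k => ?_) (funext fun k => ?_)
  · fin_cases k
    · show v.1 0 = (v.1 0 + 0 + 0) + (0 + 0 + 0)
      simp
    · show v.1 1 = (0 + v.1 1 + 0) + (0 + 0 + 0)
      simp
    · show v.1 2 = (0 + 0 + v.1 2) + (0 + 0 + 0)
      simp
  · fin_cases k
    · show v.2 0 = (0 + 0 + 0) + (v.2 0 + 0 + 0)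
      simp
    · show v.2 1 = (0 + 0 + 0) + (0 + v.2 1 + 0)
      simp
    · show v.2 2 = (0 + 0 + 0) + (0 + 0 + v.2 2)
      simp

theorem scm_E1 (γ x : F4) : scm γ (E1 x) = E1 (γ * x) := by
  refine Prod.ext (funext fun k => ?_) (funext fun k => ?_)
  · fin_cases k
    · rfl
    · exact mul_zero γ
    · exact mul_zero γ
  · exact mul_zero γ

theorem scm_E2 (γ x : F4) : scm γ (E2 x) = E2 (γ * x) := by
  refine Prod.ext (funext fun k => ?_) (funext fun k => ?_)
  · exact mul_zero γ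
  · fin_cases k
    · rfl
    · exact mul_zero γ
    · exact mul_zero γ

theorem scm_add' (γ : F4) (u v : V6) : scm γ (u + v) = scm γ u + scm γ v :=
  Prod.ext (sc_add γ _ _) (sc_add γ _ _)

theorem scm_MSh' (γ : F4) (v : V6) : scm γ (MSh v) = MSh (scm γ v) := (scm_MSh γ v).symm

/-- **Irreducibility.** -/
theorem all_of_closed (W : V6 → Prop) (hadd : ∀ u v, W u → W v → W (u + v))
    (hsc : ∀ γ v, W v → W (scm γ v)) (hD : ∀ v, W v → W (MDg v)) (hS : ∀ v, W v → W (MSh v))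
    (hB : ∀ v, W v → W (MB01 v)) (hC : ∀ v, W v → W (MC1 v)) {v : V6} (hv : W v) (hne : v ≠ 0) :
    ∀ u, W u := by
  have hP : ∀ v, W v → W (P0 v) := fun v hv => hadd _ _ (hadd _ _ hv (hD _ hv)) (hD _ (hD _ hv))
  have hNB : ∀ v, W v → W (B01 v.2, 0) := fun v hv => by
    rw [← NB_eq]
    exact hadd _ _ (hB _ hv) hv
  have hNC : ∀ v, W v → W (0, C1 v.1) := fun v hv => by
    rw [← NC_eq]
    exact hadd _ _ (hC _ hv) hv
  -- a vector on the coordinate 0
  obtain ⟨x, y, hxy, h0⟩ : ∃ x y : F4, (x ≠ 0 ∨ y ≠ 0) ∧ W (![x, 0, 0], ![y, 0, 0]) := by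
    by_contra hcon
    push Not at hcon
    apply hne
    have h1 : ∀ u, W u → u.1 0 = 0 ∧ u.2 0 = 0 := by
      intro u hu
      by_contra h2
      rw [not_and_or] at h2
      apply hcon _ _ h2
      rw [← P0_eq]
      exact hP u hu
    have h2 := h1 v hv
    have h3 := h1 _ (hS v hv)
    have h4 := h1 _ (hS _ (hS v hv))
    refine Prod.ext (funext fun k => ?_) (funext fun k => ?_)
    · fin_cases k
      · exact h2.1
      · exact h4.1
      · exact h3.1
    · fin_cases k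
      · exact h2.2
      · exact h4.2
      · exact h3.2
  -- `(0, e₀)`
  have h1 : W (E2 1) := by
    by_cases hx : x = 0
    · subst hx
      have hy : y ≠ 0 := hxy.resolve_left (fun h => h rfl)
      have h2 := hsc y⁻¹ _ h0
      have h3 : scm y⁻¹ ((![0, 0, 0], ![y, 0, 0]) : V6) = E2 1 := by
        refine Prod.ext (funext fun k => ?_) (funext fun k => ?_)
        · fin_cases k <;> exact mul_zero _
        · fin_cases k
          · exact inv_mul_cancel₀ hy
          · exact mul_zero _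
          · exact mul_zero _
      rwa [h3] at h2
    · have h2 := hP _ (hS _ (hNC _ h0))
      rw [P0_eq] at h2
      have h3 := hsc (.w * x)⁻¹ _ h2
      have hwx : (.w * x : F4) ≠ 0 := mul_ne_zero (by decide) hx
      have h4 : scm (.w * x)⁻¹ ((![(MSh ((0 : F43), C1 ![x, 0, 0])).1 0, 0, 0],
          ![(MSh ((0 : F43), C1 ![x, 0, 0])).2 0, 0, 0]) : V6) = E2 1 := by
        refine Prod.ext (funext fun k => ?_) (funext fun k => ?_)
        · fin_cases k <;> exact mul_zero _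
        · fin_cases k
          · show (.w * x)⁻¹ * (.w * x + 0) = 1
            rw [add_zero]
            exact inv_mul_cancel₀ hwx
          · exact mul_zero _
          · exact mul_zero _
      exact h4 ▸ h3
  have h2 : W (E1 1) := by
    have h3 := hNB _ h1
    have h4 : ((B01 (E2 1).2, 0) : V6) = E1 1 := by
      refine Prod.ext (funext fun k => ?_) rfl
      fin_cases k <;> rfl
    rwa [h4] at h3
  have h3 : ∀ x, W (E1 x) := fun x => by
    have := hsc x _ h2
    rwa [scm_E1, mul_one] at this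
  have h4 : ∀ x, W (E2 x) := fun x => by
    have := hsc x _ h1
    rwa [scm_E2, mul_one] at this
  intro u
  rw [sum_eq u]
  exact hadd _ _ (hadd _ _ (hadd _ _ (h3 _) (hS _ (h3 _))) (hS _ (hS _ (h3 _))))
    (hadd _ _ (hadd _ _ (h4 _) (hS _ (h4 _))) (hS _ (hS _ (h4 _))))

/-- **Only scalars commute.** -/
theorem scalar_of_comm (T : V6 → V6) (hadd : ∀ u v, T (u + v) = T u + T v)
    (hsc : ∀ γ v, T (scm γ v) = scm γ (T v)) (hD : ∀ v, T (MDg v) = MDg (T v))
    (hS : ∀ v, T (MSh v) = MSh (T v)) (hB : ∀ v, T (MB01 v) = MB01 (T v))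
    (hC : ∀ v, T (MC1 v) = MC1 (T v)) : ∃ γ : F4, ∀ v, T v = scm γ v := by
  have hP : ∀ v, T (P0 v) = P0 (T v) := fun v => by
    unfold P0
    rw [hadd, hadd, hD, hD, hD]
  have hNB : ∀ v, T (B01 v.2, 0) = (B01 (T v).2, 0) := fun v => by
    rw [← NB_eq, ← NB_eq, hadd, hB]
  have hNC : ∀ v, T (0, C1 v.1) = (0, C1 (T v).1) := fun v => by
    rw [← NC_eq, ← NC_eq, hadd, hC]
  -- `T (0, e₀) = (0, μ e₀)`
  have h1 : T (E2 1) = E2 ((T (E2 1)).2 0) := by
    have h2 : P0 (E2 1) = E2 1 := by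
      rw [P0_eq]
      refine Prod.ext (funext fun k => ?_) rfl
      fin_cases k <;> rfl
    have h3 : T (E2 1) = (![(T (E2 1)).1 0, 0, 0], ![(T (E2 1)).2 0, 0, 0]) := by
      rw [← P0_eq, ← hP, h2]
    have h4 : (T (E2 1)).1 0 = 0 := by
      -- `(0, e₀)` is the image under `N_C` of `(.., 0)`
      have h5 : E2 1 = P0 ((0, C1 (scm .w (MSh (E1 1))).1) : V6) := by
        rw [P0_eq]
        refine Prod.ext (funext fun k => ?_) (funext fun k => ?_)
        · fin_cases k <;> rfl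
        · fin_cases k
          · show (1 : F4) = .v * (.w * 1) + .v * (.w * 0)
            decide
          · rfl
          · rfl
      rw [h5, hP, hNC, P0_eq]
      rfl
    rw [h4] at h3
    refine h3.trans ?_
    refine Prod.ext (funext fun k => ?_) rfl
    fin_cases k <;> rfl
  set μ := (T (E2 1)).2 0 with hμ
  have h2 : T (E1 1) = E1 μ := by
    have h3 := hNB (E2 1)
    rw [h1] at h3
    have h4 : ((B01 (E2 1).2, 0) : V6) = E1 1 := by
      refine Prod.ext (funext fun k => ?_) rfl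
      fin_cases k <;> rfl
    have h5 : ((B01 (E2 μ).2, 0) : V6) = E1 μ := by
      refine Prod.ext (funext fun k => ?_) rfl
      fin_cases k <;> rfl
    rw [h4, h5] at h3
    exact h3
  have h3 : ∀ x, T (E1 x) = E1 (μ * x) := fun x => by
    have h4 := hsc x (E1 1)
    rw [scm_E1, mul_one, h2, scm_E1, mul_comm] at h4
    exact h4
  have h4 : ∀ x, T (E2 x) = E2 (μ * x) := fun x => by
    have h5 := hsc x (E2 1)
    rw [scm_E2, mul_one, h1, scm_E2, mul_comm] at h5
    exact h5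
  refine ⟨μ, fun v => ?_⟩
  rw [sum_eq v]
  simp only [hadd, hS, h3, h4, scm_add', scm_MSh', scm_E1, scm_E2]

/-! ### The group -/

variable {K : Type*} [Group K] {C : Cent K} (D : CentCoords C)

theorem idx_none : SporadicA.GolayBase.idx none = 23 := by decide +kernel

include D in
theorem exists_mem {p : M24} {T : ℕ} (hT : CocodeMask.IsTab p T) (hp : (p : Equiv.Perm GolayPt) ∈ M22d)
    (h0 : SporadicA.GolayPerm.papp T 23 = 23) {M : V6 → V6} (h : Lin C D.co (p : Equiv.Perm GolayPt) M) :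
    ∃ c ∈ MM C, ∀ q ∈ C.Q, D.co (c * q * c⁻¹) = M (D.co q) := by
  obtain ⟨c, hc, h1⟩ := exists_lift_one D hp h
  refine ⟨c, ⟨c.2, ?_⟩, h1⟩
  show C.P c none = none
  rw [hc]
  apply apply_eq_of_tab hT
  rw [idx_none]
  exact h0

include D in
/-- **`MM` is irreducible on `Q/⟨z⟩`.** -/
theorem irr {N : Subgroup K} (hNQ : N ≤ C.Q) (hN : ∀ c ∈ MM C, ∀ n ∈ N, c * n * c⁻¹ ∈ N) :
    (∀ n ∈ N, n = 1 ∨ n = C.z) ∨ N = C.Q := by
  by_cases hall : ∀ n ∈ N, D.co n = 0
  · left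
    exact fun n hn => D.co_ker n (hNQ hn) (hall n hn)
  · right
    push Not at hall
    obtain ⟨n₀, hn₀, hne⟩ := hall
    let W : V6 → Prop := fun v => ∃ n ∈ N, D.co n = v
    have hlin : ∀ {p : M24} {T : ℕ} (_ : CocodeMask.IsTab p T) (_ : (p : Equiv.Perm GolayPt) ∈ M22d)
        (_ : SporadicA.GolayPerm.papp T 23 = 23) {M : V6 → V6} (_ : Lin C D.co (p : Equiv.Perm GolayPt) M),
        ∀ v, W v → W (M v) := by
      intro p T hT hp h0 M h v hv
      obtain ⟨n, hn, rfl⟩ := hv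
      obtain ⟨c, hc, h1⟩ := exists_mem D hT hp h0 h
      exact ⟨_, hN c hc n hn, h1 n (hNQ hn)⟩
    have hW : ∀ u, W u := by
      refine all_of_closed W ?_ ?_ (hlin tab_s s_mem (by decide +kernel) (D.lin_s _ tab_s))
        (hlin tab_s' s'_mem (by decide +kernel) (D.lin_s' _ tab_s'))
        (hlin tab_b01 b01_mem (by decide +kernel) (D.lin_b01 _ tab_b01))
        (hlin tab_c1 c1_mem (by decide +kernel) (D.lin_c1 _ tab_c1)) ⟨n₀, hn₀, rfl⟩ hne
      · rintro _ _ ⟨a, ha, rfl⟩ ⟨b, hb, rfl⟩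
        exact ⟨a * b, N.mul_mem ha hb, D.co_mul _ (hNQ ha) _ (hNQ hb)⟩
      · rintro γ _ ⟨n, hn, rfl⟩
        by_cases hγ : γ = 0
        · subst hγ
          refine ⟨1, N.one_mem, ?_⟩
          rw [co_one D]
          exact Prod.ext (funext fun k => (zero_mul _).symm) (funext fun k => (zero_mul _).symm)
        · obtain ⟨i, hi⟩ := exists_pow (K := D) hγ
          refine ⟨(r C : K) ^ i * n * ((r C : K) ^ i)⁻¹, hN _ ((MM C).pow_mem (rho_mem_MM C) i) n hn, ?_⟩
          rw [co_rho_pow D i (hNQ hn), hi]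
    -- `z ∈ N`
    obtain ⟨a, ha, b, hb, hab⟩ : ∃ a ∈ C.Q, ∃ b ∈ C.Q, a * b = C.z * (b * a) := by
      by_contra hcon
      push Not at hcon
      apply hne
      have h1 : n₀ = 1 ∨ n₀ = C.z := C.Q_cent n₀ fun q hq => by
        rcases C.Q_comm n₀ (hNQ hn₀) q hq with h | h
        · exact h
        · exact absurd h (hcon n₀ (hNQ hn₀) q hq)
      rcases h1 with h | h
      · rw [h]; exact co_one D
      · rw [h]; exact D.co_z
    obtain ⟨n, hn, h1⟩ := hW (D.co a)
    have hza : C.z * a = a * C.z := (comm_z (Q_le_MM C ha)).symm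
    have hzb : C.z * b = b * C.z := (comm_z (Q_le_MM C hb)).symm
    have hnb : n * b = C.z * (b * n) := by
      rcases (co_eq_iff D (hNQ hn) ha).1 h1 with h | h
      · rw [h]; exact hab
      · rw [h, mul_assoc, hab, ← mul_assoc b, ← hzb, mul_assoc C.z b a]
    have hzN : C.z ∈ N := by
      have h2 := N.mul_mem hn (hN b (Q_le_MM C hb) n⁻¹ (N.inv_mem hn))
      have h3 : n * (b * n⁻¹ * b⁻¹) = n * b * n⁻¹ * b⁻¹ := by group
      rw [h3, hnb] at h2
      have h4 : C.z * (b * n) * n⁻¹ * b⁻¹ = C.z := by group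
      rwa [h4] at h2
    apply le_antisymm hNQ
    intro q hq
    obtain ⟨n, hn, h1⟩ := hW (D.co q)
    rcases (co_eq_iff D hq (hNQ hn)).1 h1.symm with h | h
    · rw [h]; exact hn
    · rw [h]; exact N.mul_mem hzN hn

/-- **The endomorphisms of `Q/⟨z⟩` commuting with `MM` are the powers of `ρ`.** -/
theorem exists_rho_pow {β : K → K} (hQ : ∀ q ∈ C.Q, β q ∈ C.Q)
    (hadd : ∀ a ∈ C.Q, ∀ b ∈ C.Q, D.co (β (a * b)) = D.co (β a) + D.co (β b))
    (hz : D.co (β C.z) = 0)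
    (hne : ∃ q ∈ C.Q, D.co (β q) ≠ 0)
    (hcomm : ∀ c ∈ MM C, ∀ q ∈ C.Q, D.co (β (c * q * c⁻¹)) = D.co (c * β q * c⁻¹)) :
    ∃ i : ℕ, ∀ q ∈ C.Q, D.co (β q) = D.co (C.ρ ^ i * q * (C.ρ ^ i)⁻¹) := by
  choose f hf1 hf2 using D.co_surj
  have hwd : ∀ a ∈ C.Q, ∀ b ∈ C.Q, D.co a = D.co b → D.co (β a) = D.co (β b) := by
    intro a ha b hb h
    rcases (co_eq_iff D ha hb).1 h with h1 | h1
    · rw [h1]
    · rw [h1, hadd _ C.z_mem_Q _ hb, hz, zero_add]
  let T : V6 → V6 := fun v => D.co (β (f v))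
  have hT : ∀ q ∈ C.Q, T (D.co q) = D.co (β q) := fun q hq => hwd _ (hf1 _) _ hq (hf2 _)
  have hlin : ∀ {p : M24} {T' : ℕ} (_ : CocodeMask.IsTab p T') (_ : (p : Equiv.Perm GolayPt) ∈ M22d)
      (_ : SporadicA.GolayPerm.papp T' 23 = 23) {M : V6 → V6} (_ : Lin C D.co (p : Equiv.Perm GolayPt) M),
      ∀ v, T (M v) = M (T v) := by
    intro p T' hT' hp h0 M h v
    obtain ⟨c, hc, h1⟩ := exists_mem D hT' hp h0 h
    obtain ⟨q, hq, rfl⟩ := D.co_surj v
    have h2 : c * q * c⁻¹ ∈ C.Q := C.Q_conj c (comm_z hc) q hq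
    rw [hT q hq, ← h1 q hq, hT _ h2, hcomm c hc q hq, h1 _ (hQ q hq)]
  have hTadd : ∀ u v, T (u + v) = T u + T v := by
    intro u v
    obtain ⟨a, ha, rfl⟩ := D.co_surj u
    obtain ⟨b, hb, rfl⟩ := D.co_surj v
    rw [← D.co_mul a ha b hb, hT _ (C.Q.mul_mem ha hb), hT a ha, hT b hb, hadd a ha b hb]
  have hT0 : T 0 = 0 := by
    have h1 := hTadd 0 0
    rw [add_zero] at h1
    exact left_eq_add.1 h1
  have hTsc : ∀ γ v, T (scm γ v) = scm γ (T v) := by
    intro γ v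
    have hs0 : ∀ u : V6, scm 0 u = 0 := fun u =>
      Prod.ext (funext fun k => zero_mul _) (funext fun k => zero_mul _)
    by_cases hγ : γ = 0
    · subst hγ
      rw [hs0, hs0, hT0]
    · obtain ⟨i, hi⟩ := exists_pow (K := D) hγ
      obtain ⟨q, hq, rfl⟩ := D.co_surj v
      have hm : (r C : K) ^ i ∈ MM C := (MM C).pow_mem (rho_mem_MM C) i
      have h2 : (r C : K) ^ i * q * ((r C : K) ^ i)⁻¹ ∈ C.Q := C.Q_conj _ (comm_z hm) q hq
      rw [← hi, ← co_rho_pow D i hq, hT _ h2, hT q hq, hcomm _ hm q hq, co_rho_pow D i (hQ q hq)]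
  obtain ⟨γ, hγ⟩ := scalar_of_comm T hTadd hTsc
    (hlin tab_s s_mem (by decide +kernel) (D.lin_s _ tab_s))
    (hlin tab_s' s'_mem (by decide +kernel) (D.lin_s' _ tab_s'))
    (hlin tab_b01 b01_mem (by decide +kernel) (D.lin_b01 _ tab_b01))
    (hlin tab_c1 c1_mem (by decide +kernel) (D.lin_c1 _ tab_c1))
  have hγ0 : γ ≠ 0 := by
    rintro rfl
    obtain ⟨q, hq, h1⟩ := hne
    apply h1
    rw [← hT q hq, hγ]
    exact Prod.ext (funext fun k => zero_mul _) (funext fun k => zero_mul _)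
  obtain ⟨i, hi⟩ := exists_pow (K := D) hγ0
  refine ⟨i, fun q hq => ?_⟩
  have h1 := co_rho_pow D i hq
  have h2 : (r C : K) = C.ρ := rfl
  rw [h2] at h1
  rw [← hT q hq, hγ, h1, hi]

end Cfsg.Agent.KFacts.J4.Irr
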