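import Cfsg.Agent.KFacts.J4.SheetJ4
import Cfsg.Agent.OddHalf.CaseM.Sheet

/-!
# The fourth Janko group: the facts of case (M)
-/

set_option autoImplicit false

namespace Cfsg.Agent.KFacts.J4.SheetMJ4

open Cfsg Cfsg.Agent.J4Type Cfsg.Agent.KFacts.J4.Base Cfsg.Agent.KFacts.J4.AutP
open scoped commutatorElement

variable {K : Type*} [Group K]

/-- `MM` has index 2 in `C_K(z)` -/
theorem relIndex_MM (C : Cent K) : (MM C).relIndex (Subgroup.centralizer ({C.z} : Set K)) = 2 := by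
  obtain ⟨g, hg, hg'⟩ := Base.exists_swap
  rw [← C.P_range] at hg
  obtain ⟨c, rfl⟩ := hg
  have hc : (c : K) ∉ MM C := fun h => hg' h.2
  show ((MM C).subgroupOf (Subgroup.centralizer ({C.z} : Set K))).index = 2
  rw [Subgroup.index_eq_two_iff]
  refine ⟨c, fun b => ?_⟩
  rw [Subgroup.mem_subgroupOf, Subgroup.mem_subgroupOf, Subgroup.coe_mul]
  have hbz := Subgroup.mem_centralizer_singleton_iff.1 b.2
  have hcz := Subgroup.mem_centralizer_singleton_iff.1 c.2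
  by_cases hb : (b : K) ∈ MM C
  · right
    refine ⟨hb, fun h => hc ?_⟩
    have h1 := (MM C).mul_mem ((MM C).inv_mem hb) h
    rwa [inv_mul_cancel_left] at h1
  · left
    exact ⟨mul_mem_of_not_mem hbz hcz hb hc, hb⟩

/-- **`P/R` is quasisimple.** -/
theorem quasi [Finite K] {C : Cent K} (hp : ⁅MM C, MM C⁆ = MM C) (N : Subgroup K) (hN : N ≤ MM C)
    (hQ : C.Q ≤ N) (hn : ∀ p ∈ MM C, ∀ n ∈ N, p * n * p⁻¹ ∈ N) : ⁅N, MM C⁆ ≤ C.Q ∨ N = MM C := by
  have := Cfsg.Agent.SporadicA.MathieuRecog.simple_M22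
  let N' : Subgroup (MM C) := N.subgroupOf (MM C)
  have hN'n : N'.Normal := ⟨fun b hb g => hn g g.2 b hb⟩
  have h1 : (N'.map (pi C)).Normal := hN'n.map _ (pi_surjective C)
  rcases h1.eq_bot_or_eq_top with h2 | h2
  · left
    rw [Subgroup.commutator_le]
    intro n hn' p hp'
    have h3 : pi C ⟨n, hN hn'⟩ ∈ N'.map (pi C) := ⟨_, hn', rfl⟩
    rw [h2, Subgroup.mem_bot] at h3
    exact (ker_iff _).1 h3 ⟨p, hp'⟩
  · right
    -- every element is `n ρ^i`
    have hel : ∀ x : MM C, ∃ n : MM C, n ∈ N' ∧ ∃ i : ℕ, x = n * ⟨C.ρ, rho_mem_MM C⟩ ^ i := by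
      intro x
      have h3 : pi C x ∈ N'.map (pi C) := by rw [h2]; trivial
      obtain ⟨n, hn', h4⟩ := h3
      have h5 : pi C (x * n⁻¹) = 1 := by rw [map_mul, map_inv, h4, mul_inv_cancel]
      obtain ⟨q, hq, i, h6⟩ := (pi_eq_one _).1 h5
      refine ⟨⟨q, Q_le_MM C hq⟩ * (⟨C.ρ, rho_mem_MM C⟩ ^ i * n * (⟨C.ρ, rho_mem_MM C⟩ ^ i)⁻¹),
        N'.mul_mem (hQ hq) (hN'n.conj_mem n hn' _), i, ?_⟩
      apply Subtype.ext
      have h7 : (x : K) = q * C.ρ ^ i * n := by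
        have h8 : (x : K) * (n : K)⁻¹ = q * C.ρ ^ i := h6
        rw [← h8]; group
      rw [h7]
      show q * C.ρ ^ i * (n : K) = q * (C.ρ ^ i * n * (C.ρ ^ i)⁻¹) * C.ρ ^ i
      group
    have hcomm : ∀ a b : MM C ⧸ N', a * b = b * a := by
      have hel' : ∀ a : MM C ⧸ N', ∃ i : ℕ, a = ((⟨C.ρ, rho_mem_MM C⟩ : MM C) : MM C ⧸ N') ^ i := by
        intro a
        obtain ⟨x, rfl⟩ := QuotientGroup.mk_surjective a
        obtain ⟨n, hn', i, rfl⟩ := hel x
        refine ⟨i, ?_⟩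
        rw [QuotientGroup.mk_mul, (QuotientGroup.eq_one_iff n).2 hn', one_mul, QuotientGroup.mk_pow]
      intro a b
      obtain ⟨i, rfl⟩ := hel' a
      obtain ⟨j, rfl⟩ := hel' b
      rw [← pow_add, ← pow_add, add_comm]
    have h3 : (⊤ : Subgroup (MM C)) ≤ N' := by
      rw [← commutator_eq_top hp, commutator_def, Subgroup.commutator_le]
      intro a _ b _
      rw [← QuotientGroup.eq_one_iff, ← QuotientGroup.mk'_apply, map_commutatorElement,
        commutatorElement_eq_one_iff_mul_comm]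
      exact hcomm _ _
    exact le_antisymm hN fun x hx => h3 (Subgroup.mem_top ⟨x, hx⟩)

/-- an element of order 7 acting non-trivially -/
theorem exists_seven [Finite K] (C : Cent K) : ∃ x ∈ MM C, IsPGroup 7 (Subgroup.zpowers x) ∧
    ∃ y ∈ MM C, ⁅x, y⁆ ∉ C.Q := by
  have h7 : Fact (Nat.Prime 7) := ⟨by norm_num⟩
  have hdvd : 7 ∣ Nat.card (MM C) := by
    have h1 : Nat.card Cfsg.Spor.M22 ∣ Nat.card (MM C) :=
      Subgroup.card_dvd_of_surjective (pi C) (pi_surjective C)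
    rw [Cfsg.Agent.SporadicA.MathieuRecog.card_M22] at h1
    exact (by norm_num : 7 ∣ 443520).trans h1
  obtain ⟨x, hx⟩ := exists_prime_orderOf_dvd_card' (G := MM C) 7 hdvd
  refine ⟨x, x.2, ?_, ?_⟩
  · have h1 : orderOf (x : K) = 7 := by rw [Subgroup.orderOf_coe]; exact hx
    exact IsPGroup.of_card (n := 1) (by rw [Nat.card_zpowers, h1, pow_one])
  · by_contra hcon
    push Not at hcon
    have h1 : pi C x = 1 := (ker_iff x).2 fun y => hcon y y.2
    obtain ⟨q, hq, i, h2⟩ := (pi_eq_one x).1 h1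
    obtain ⟨q', hq', h3⟩ := pow_eq hq i 7
    have h4 : (x : K) ^ 7 = 1 := by
      rw [← Subgroup.coe_pow, ← hx, pow_orderOf_eq_one]; rfl
    rw [← h2, h4] at h3
    have h5 : C.ρ ^ (i * 7) ∈ C.Q := by
      rw [pow_mul]
      have h6 : (C.ρ ^ i) ^ 7 = q'⁻¹ := eq_inv_of_mul_eq_one_right h3.symm
      rw [h6]
      exact C.Q.inv_mem hq'
    have h6 := orderOf_dvd_of_pow_eq_one (rho_pow_eq_one h5)
    rw [C.ρ_order] at h6
    have h7 : 3 ∣ i := by omega
    obtain ⟨j, rfl⟩ := h7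
    rw [pow_mul, rho_cube, one_pow, mul_one] at h2
    have h8 : (x : K) ^ 4 = 1 := by rw [h2]; exact Q_pow_four hq
    have h9 : x ^ 4 = 1 := Subtype.ext h8
    have h10 := orderOf_dvd_of_pow_eq_one h9
    rw [hx] at h10
    norm_num at h10

/-- **the facts of case (M)** -/
theorem sheetM [Finite K] [IsSimpleGroup K] (F : Full K) :
    OddHalf.CaseM.SheetM (MM F.C.toCent) F.C.Q := by
  obtain ⟨x, hx, hx7, y, hy, hxy⟩ := exists_seven F.C.toCent
  refine OddHalf.CaseM.SheetM.of_quasisimple (SheetJ4.sheet F)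
    (fun N hN hQ hn => quasi F.perf N hN hQ hn) (p := 7) (w := 6) (by norm_num) (by norm_num)
    (by rw [F.C.Q_card]) hx hx7 hy hxy ⟨0, ?_⟩ ⟨1, by rw [relIndex_MM, pow_one]⟩
  have hrange : (MulAut.conj : K →* MulAut K).range = ⊤ := by
    rw [eq_top_iff]
    intro α _
    obtain ⟨p, hp⟩ := SheetJ4.inner F α
    exact ⟨p, hp.symm⟩
  rw [hrange, Subgroup.index_top, pow_zero]

/-- **both sheets for every group isomorphic to `J4`** -/
theorem exists_sheets {K : Type*} [Group K] (h : Cfsg.Spor.IsoJ4 K) :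
    ∃ (z : K) (P R : Subgroup K), OddHalf.D8.Sheet.SheetE z P R ∧ OddHalf.CaseM.SheetM P R := by
  obtain ⟨h1, h2, ⟨F⟩⟩ := exists_full h
  exact ⟨_, _, _, SheetJ4.sheet F, sheetM F⟩

end Cfsg.Agent.KFacts.J4.SheetMJ4
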